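import Groth.Agent.ThetaS.K686.SecRing
import Groth.Agent.AlgSt.K750.QuotAff

/-!
# Gluing ring-valued sections

* `exists_vsec`: sections over two localizations `B₁ = B[1/a]`, `B₂ = B[1/b]` agreeing over `B[1/ab]`
  give a section over the open part of `Spec B`;
* `exists_fib`: sections glue along fibre products of rings (the torsor is affine).
-/

set_option autoImplicit false
set_option linter.dupNamespace false
set_option linter.style.haveILetI false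
set_option backward.isDefEq.respectTransparency false
set_option backward.isDefEq.respectTransparency.types false

universe u

open CategoryTheory CategoryTheory.Limits MonoidalCategory CartesianMonoidalCategory MonObj GrpObj
  AlgebraicGeometry TopologicalSpace Opposite WithConv
open FibCat K943.FibBase K943.CoverExt K943.QuotAtlas K943.QuotCover K943.LocPair K943.QuotOpen
  K943.QuotTriv K943.SelfLift K686.Sect K686.SecObj K686.SecRing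
open scoped TensorProduct Polynomial

namespace K686.SecGlue

open ThetaS

/-- `Spec f` is the open immersion of `D(a)`. -/
structure Loc {B B₁ : Type u} [CommRing B] [CommRing B₁] (f : B →+* B₁) (a : B) : Prop where
  oi : IsOpenImmersion (Spec.map (CommRingCat.ofHom f))
  range : ∀ x : PrimeSpectrum B, x ∈ Set.range (PrimeSpectrum.comap f) ↔ x ∈ PrimeSpectrum.basicOpen a

theorem Loc.of_isLocalization {B B₁ : Type u} [CommRing B] [CommRing B₁] [Algebra B B₁] (a : B)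
    [IsLocalization.Away a B₁] : Loc (algebraMap B B₁) a where
  oi := IsOpenImmersion.of_isLocalization a
  range x := by
    rw [PrimeSpectrum.localization_away_comap_range B₁ a]; rfl

section vsec

variable {R : Type u} [CommRing R] {S : Scheme.{u}} (h : Spec (CommRingCat.of R) ⟶ S)
  {Y₀ : Over (Spec (CommRingCat.of R))} {aY : AlgGrp.Action (Gm R) Y₀} {U : Y₀.left.Opens}
  (hU : Stable aY U) {G : Over S} [GrpObj G] {X : Over S} {aX : AlgGrp.Action G X}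
  {K K' : Precoverage Scheme.{u}} [K.HasIsos]
  {Φ : sub (ThetaS.overS h (AlgSt.QuotSt K (Gm R) aY)) (InU K aY U) ⥤ᵇ AlgSt.QuotSt K' G aX}
  {B B₁ B₂ B₁₂ : Type u} [CommRing B] [Algebra R B] [CommRing B₁] [Algebra R B₁] [CommRing B₂]
  [Algebra R B₂] [CommRing B₁₂] [Algebra R B₁₂]

/-- The localization as a map to the open part. -/
theorem exists_l (y : CoactBr.sp R B ⟶ Y₀) {f : B →ₐ[R] B₁} {a : B} (hf : Loc f.toRingHom a)
    (hy : ∀ x : PrimeSpectrum B, x ∈ PrimeSpectrum.basicOpen a → x ∈ y.left ⁻¹ᵁ U) :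
    ∃ l : CoactBr.sp R B₁ ⟶ YU y U, l ≫ openMap y U = CoactBr.pt f := by
  refine ⟨Over.homMk (IsOpenImmersion.lift (y.left ⁻¹ᵁ U).ι (Spec.map (CommRingCat.ofHom f.toRingHom)) ?_) ?_, ?_⟩
  · rintro _ ⟨x, rfl⟩
    exact ⟨⟨_, hy _ ((hf.range _).1 ⟨x, rfl⟩)⟩, rfl⟩
  · change IsOpenImmersion.lift (y.left ⁻¹ᵁ U).ι (Spec.map (CommRingCat.ofHom f.toRingHom)) _ ≫
      (y.left ⁻¹ᵁ U).ι ≫ (CoactBr.sp R B).hom = _
    rw [IsOpenImmersion.lift_fac_assoc]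
    exact Over.w (CoactBr.pt f)
  · apply Over.OverMorphism.ext
    exact IsOpenImmersion.lift_fac _ _ _

theorem exists_vsec (y : CoactBr.sp R B ⟶ Y₀) {a b : B}
    (hy : ∀ x : PrimeSpectrum B, x ∈ y.left ⁻¹ᵁ U ↔ x ∈ PrimeSpectrum.basicOpen a ∨
      x ∈ PrimeSpectrum.basicOpen b) {f₁ : B →ₐ[R] B₁} {f₂ : B →ₐ[R] B₂} {g₁ : B₁ →ₐ[R] B₁₂}
    {g₂ : B₂ →ₐ[R] B₁₂} (hg : g₁.comp f₁ = g₂.comp f₂) (h₁ : Loc f₁.toRingHom a)
    (h₂ : Loc f₂.toRingHom b) (h₁₂ : Loc g₁.toRingHom (f₁ b))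
    {y₁ : CoactBr.sp R B₁ ⟶ Y₀} {hy₁ : y₁.left ⁻¹ᵁ U = ⊤} (e₁ : Tr (aY := aY) f₁ 1 y y₁)
    {y₂ : CoactBr.sp R B₂ ⟶ Y₀} {hy₂ : y₂.left ⁻¹ᵁ U = ⊤} (e₂ : Tr (aY := aY) f₂ 1 y y₂)
    {y₃ : CoactBr.sp R B₁₂ ⟶ Y₀} {hy₃ : y₃.left ⁻¹ᵁ U = ⊤} (d₁ : Tr (aY := aY) g₁ 1 y₁ y₃)
    (d₂ : Tr (aY := aY) g₂ 1 y₂ y₃) (s₁ : RSec h hU Φ y₁ hy₁) (s₂ : RSec h hU Φ y₂ hy₂)
    (hs : rs (hy' := hy₃) d₁ s₁ = rs d₂ s₂) : Nonempty (Sec Φ (vObj (K := K) h hU y)) := by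
  obtain ⟨l₁, hl₁⟩ := exists_l (U := U) y h₁ fun x hx => (hy x).2 (Or.inl hx)
  obtain ⟨l₂, hl₂⟩ := exists_l (U := U) y h₂ fun x hx => (hy x).2 (Or.inr hx)
  haveI hm : Mono (openMap y U) := by
    haveI : Mono ((Over.forget _).map (openMap y U)) := by
      change Mono (y.left ⁻¹ᵁ U).ι
      infer_instance
    exact (Over.forget _).mono_of_mono_map this
  have hl : CoactBr.pt g₁ ≫ l₁ = CoactBr.pt g₂ ≫ l₂ := by
    rw [← cancel_mono (openMap y U), Category.assoc, Category.assoc, hl₁, hl₂, ← CoactBr.pt_comp,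
      ← CoactBr.pt_comp, hg]
  have hi₁ : l₁.left ≫ (y.left ⁻¹ᵁ U).ι = Spec.map (CommRingCat.ofHom f₁.toRingHom) :=
    congrArg CommaMorphism.left hl₁
  have hi₂ : l₂.left ≫ (y.left ⁻¹ᵁ U).ι = Spec.map (CommRingCat.ofHom f₂.toRingHom) :=
    congrArg CommaMorphism.left hl₂
  haveI := h₁.oi
  haveI := h₂.oi
  haveI := h₁₂.oi
  haveI o₁ : IsOpenImmersion l₁.left := by
    haveI : IsOpenImmersion (l₁.left ≫ (y.left ⁻¹ᵁ U).ι) := by rw [hi₁]; infer_instance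
    exact IsOpenImmersion.of_comp l₁.left (y.left ⁻¹ᵁ U).ι
  haveI o₂ : IsOpenImmersion l₂.left := by
    haveI : IsOpenImmersion (l₂.left ≫ (y.left ⁻¹ᵁ U).ι) := by rw [hi₂]; infer_instance
    exact IsOpenImmersion.of_comp l₂.left (y.left ⁻¹ᵁ U).ι
  have r₁ : ∀ x : (YU y U).left, x ∈ Set.range l₁.left ↔
      (y.left ⁻¹ᵁ U).ι x ∈ Set.range (Spec.map (CommRingCat.ofHom f₁.toRingHom)) := by
    intro x
    rw [← hi₁]
    constructor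
    · rintro ⟨z, rfl⟩; exact ⟨z, rfl⟩
    · rintro ⟨z, hz⟩
      exact ⟨z, (Scheme.Hom.isOpenEmbedding (y.left ⁻¹ᵁ U).ι).injective hz⟩
  have r₂ : ∀ x : (YU y U).left, x ∈ Set.range l₂.left ↔
      (y.left ⁻¹ᵁ U).ι x ∈ Set.range (Spec.map (CommRingCat.ofHom f₂.toRingHom)) := by
    intro x
    rw [← hi₂]
    constructor
    · rintro ⟨z, rfl⟩; exact ⟨z, rfl⟩
    · rintro ⟨z, hz⟩
      exact ⟨z, (Scheme.Hom.isOpenEmbedding (y.left ⁻¹ᵁ U).ι).injective hz⟩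
  have hc : ∀ x : (YU y U).left, x ∈ Set.range l₁.left ∨ x ∈ Set.range l₂.left := by
    intro x
    rw [r₁, r₂]
    rcases (hy ((y.left ⁻¹ᵁ U).ι x)).1 x.2 with hx | hx
    · exact Or.inl ((h₁.range _).2 hx)
    · exact Or.inr ((h₂.range _).2 hx)
  have pb0 : IsPullback (CoactBr.pt g₂).left (CoactBr.pt g₁).left l₂.left l₁.left := by
    haveI : IsOpenImmersion (CoactBr.pt g₁).left := h₁₂.oi
    refine IsOpenImmersion.isPullback _ _ _ _ (congrArg CommaMorphism.left hl) ?_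
    ext x
    constructor
    · intro hx
      have hx2 : l₁.left x ∈ Set.range l₂.left := hx
      rw [r₂] at hx2
      have hx3 : (y.left ⁻¹ᵁ U).ι (l₁.left x) = Spec.map (CommRingCat.ofHom f₁.toRingHom) x := by
        rw [← hi₁]; rfl
      rw [hx3] at hx2
      exact (h₁₂.range x).2 ((h₂.range _).1 hx2)
    · intro hx
      have hx1 := (h₁₂.range x).1 hx
      change l₁.left x ∈ Set.range l₂.left
      rw [r₂]
      have hx3 : (y.left ⁻¹ᵁ U).ι (l₁.left x) = Spec.map (CommRingCat.ofHom f₁.toRingHom) x := by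
        rw [← hi₁]; rfl
      rw [hx3]
      exact (h₂.range _).2 hx1
  -- the arrows
  have hyv : (openMap y U ≫ y).left ⁻¹ᵁ U = ⊤ := (inU_uObj_iff (K := K) hU _).1 (inU_YU hU y)
  have w₁ : sm aY (gmPt 1) (l₁ ≫ openMap y U ≫ y) = y₁ := by
    rw [← Category.assoc, hl₁]; exact e₁
  have w₂ : sm aY (gmPt 1) (l₂ ≫ openMap y U ≫ y) = y₂ := by
    rw [← Category.assoc, hl₂]; exact e₂
  let m₁ : cObj (K := K) h hU y₁ hy₁ ⟶ vObj (K := K) h hU y := ar h hU (hy := hyv) l₁ (gmPt 1) w₁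
  let m₂ : cObj (K := K) h hU y₂ hy₂ ⟶ vObj (K := K) h hU y := ar h hU (hy := hyv) l₂ (gmPt 1) w₂
  let n₁ : cObj (K := K) h hU y₃ hy₃ ⟶ cObj (K := K) h hU y₁ hy₁ := ar h hU (CoactBr.pt g₁) (gmPt 1) d₁
  let n₂ : cObj (K := K) h hU y₃ hy₃ ⟶ cObj (K := K) h hU y₂ hy₂ := ar h hU (CoactBr.pt g₂) (gmPt 1) d₂
  have key : ∀ (n n' : CoactBr.sp R B₁₂ ⟶ YU y U) (g g' : CoactBr.sp R B₁₂ ⟶ Gm R) (hn : n = n')
      (hg : g = g') (d : sm aY g (n ≫ openMap y U ≫ y) = y₃) (d' : sm aY g' (n' ≫ openMap y U ≫ y) = y₃),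
      ar (K := K) h hU (hy' := hy₃) (hy := hyv) n g d = ar h hU n' g' d' := by
    rintro n _ g _ rfl rfl _ _; rfl
  have e0 : n₁ ≫ m₁ = n₂ ≫ m₂ := by
    have q₁ : sm aY (gmPt 1 * (CoactBr.pt g₁ ≫ gmPt 1)) ((CoactBr.pt g₁ ≫ l₁) ≫ openMap y U ≫ y) = y₃ := by
      rw [sm_mul, Category.assoc, ← comp_sm, w₁]; exact d₁
    have q₂ : sm aY (gmPt 1 * (CoactBr.pt g₂ ≫ gmPt 1)) ((CoactBr.pt g₂ ≫ l₂) ≫ openMap y U ≫ y) = y₃ := by
      rw [sm_mul, Category.assoc, ← comp_sm, w₂]; exact d₂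
    rw [ar_comp (K := K) h hU (h₃ := hyv) (CoactBr.pt g₁) (gmPt 1) d₁ l₁ (gmPt 1) w₁ q₁,
      ar_comp (K := K) h hU (h₃ := hyv) (CoactBr.pt g₂) (gmPt 1) d₂ l₂ (gmPt 1) w₂ q₂]
    apply key
    · exact hl
    · rw [gmPt_comp, gmPt_comp, map_one, map_one]
  haveI : IsOpenImmersion ((sub (overS h (AlgSt.QuotSt K (Gm R) aY)) (InU K aY U)).p.map m₁).left := o₁
  haveI : IsOpenImmersion ((sub (overS h (AlgSt.QuotSt K (Gm R) aY)) (InU K aY U)).p.map m₂).left := o₂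
  exact exists_sec (Φ := Φ) m₁ m₂ n₁ n₂ e0 hc
    (IsPullback.of_map (Over.forget S) (by
      change (Over.map h).map (CoactBr.pt g₁) ≫ (Over.map h).map l₁ =
        (Over.map h).map (CoactBr.pt g₂) ≫ (Over.map h).map l₂
      rw [← Functor.map_comp, ← Functor.map_comp, hl]) pb0.flip) s₁ s₂ hs

end vsec

section fib

/-- A fibre square of rings. -/
structure Fib {B B₁ B₂ B₁₂ : Type u} [CommRing B] [CommRing B₁] [CommRing B₂] [CommRing B₁₂]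
    (f₁ : B →+* B₁) (f₂ : B →+* B₂) (g₁ : B₁ →+* B₁₂) (g₂ : B₂ →+* B₁₂) : Prop where
  comm : g₁.comp f₁ = g₂.comp f₂
  inj : ∀ b b', f₁ b = f₁ b' → f₂ b = f₂ b' → b = b'
  ex : ∀ b₁ b₂, g₁ b₁ = g₂ b₂ → ∃ b, f₁ b = b₁ ∧ f₂ b = b₂

section sch

variable {B B₁ B₂ B₁₂ : Type u} [CommRing B] [CommRing B₁] [CommRing B₂] [CommRing B₁₂]
  {f₁ : B →+* B₁} {f₂ : B →+* B₂} {g₁ : B₁ →+* B₁₂} {g₂ : B₂ →+* B₁₂}

theorem Fib.lift (H : Fib f₁ f₂ g₁ g₂) {D : Type u} [CommRing D] (φ₁ : D →+* B₁) (φ₂ : D →+* B₂)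
    (e : g₁.comp φ₁ = g₂.comp φ₂) : ∃ φ : D →+* B, f₁.comp φ = φ₁ ∧ f₂.comp φ = φ₂ := by
  have h0 : ∀ d, ∃ b, f₁ b = φ₁ d ∧ f₂ b = φ₂ d := fun d => H.ex _ _ congr($e d)
  choose c hc₁ hc₂ using h0
  exact ⟨{ toFun := c
           map_one' := H.inj _ _ (by rw [hc₁, map_one, map_one]) (by rw [hc₂, map_one, map_one])
           map_mul' := fun x y => H.inj _ _ (by rw [hc₁, map_mul, map_mul, hc₁, hc₁])
            (by rw [hc₂, map_mul, map_mul, hc₂, hc₂])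
           map_zero' := H.inj _ _ (by rw [hc₁, map_zero, map_zero]) (by rw [hc₂, map_zero, map_zero])
           map_add' := fun x y => H.inj _ _ (by rw [hc₁, map_add, map_add, hc₁, hc₁])
            (by rw [hc₂, map_add, map_add, hc₂, hc₂]) },
    RingHom.ext hc₁, RingHom.ext hc₂⟩

theorem Fib.glue (H : Fib f₁ f₂ g₁ g₂) {P : Scheme.{u}} [IsAffine P]
    (q₁ : Spec (CommRingCat.of B₁) ⟶ P) (q₂ : Spec (CommRingCat.of B₂) ⟶ P)
    (e : Spec.map (CommRingCat.ofHom g₁) ≫ q₁ = Spec.map (CommRingCat.ofHom g₂) ≫ q₂) :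
    ∃ a : Spec (CommRingCat.of B) ⟶ P, Spec.map (CommRingCat.ofHom f₁) ≫ a = q₁ ∧
      Spec.map (CommRingCat.ofHom f₂) ≫ a = q₂ := by
  obtain ⟨φ₁, hφ₁⟩ := Spec.map_surjective (q₁ ≫ P.isoSpec.hom)
  obtain ⟨φ₂, hφ₂⟩ := Spec.map_surjective (q₂ ≫ P.isoSpec.hom)
  have h1 : g₁.comp φ₁.hom = g₂.comp φ₂.hom := by
    have h2 : φ₁ ≫ CommRingCat.ofHom g₁ = φ₂ ≫ CommRingCat.ofHom g₂ := by
      apply Spec.map_injective
      rw [Spec.map_comp, Spec.map_comp, hφ₁, hφ₂, ← Category.assoc, ← Category.assoc, e]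
    exact congrArg CommRingCat.Hom.hom h2
  obtain ⟨φ, e₁, e₂⟩ := H.lift φ₁.hom φ₂.hom h1
  refine ⟨Spec.map (CommRingCat.ofHom φ) ≫ P.isoSpec.inv, ?_, ?_⟩
  · rw [← Category.assoc, ← Spec.map_comp, ← CommRingCat.ofHom_comp, e₁, Iso.comp_inv_eq]
    exact hφ₁
  · rw [← Category.assoc, ← Spec.map_comp, ← CommRingCat.ofHom_comp, e₂, Iso.comp_inv_eq]
    exact hφ₂

theorem Fib.ext (H : Fib f₁ f₂ g₁ g₂) {P : Scheme.{u}} [IsAffine P]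
    {a a' : Spec (CommRingCat.of B) ⟶ P}
    (e₁ : Spec.map (CommRingCat.ofHom f₁) ≫ a = Spec.map (CommRingCat.ofHom f₁) ≫ a')
    (e₂ : Spec.map (CommRingCat.ofHom f₂) ≫ a = Spec.map (CommRingCat.ofHom f₂) ≫ a') : a = a' := by
  rw [← cancel_mono P.isoSpec.hom]
  obtain ⟨φ, hφ⟩ := Spec.map_surjective (a ≫ P.isoSpec.hom)
  obtain ⟨φ', hφ'⟩ := Spec.map_surjective (a' ≫ P.isoSpec.hom)
  rw [← hφ, ← hφ']
  congr 1
  have h1 : φ ≫ CommRingCat.ofHom f₁ = φ' ≫ CommRingCat.ofHom f₁ := by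
    apply Spec.map_injective
    rw [Spec.map_comp, Spec.map_comp, hφ, hφ', ← Category.assoc, ← Category.assoc, e₁]
  have h2 : φ ≫ CommRingCat.ofHom f₂ = φ' ≫ CommRingCat.ofHom f₂ := by
    apply Spec.map_injective
    rw [Spec.map_comp, Spec.map_comp, hφ, hφ', ← Category.assoc, ← Category.assoc, e₂]
  ext d
  exact H.inj _ _ congr($h1 d) congr($h2 d)

end sch

variable {R : Type u} [CommRing R] {S : Scheme.{u}} (h : Spec (CommRingCat.of R) ⟶ S)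
  {Y₀ : Over (Spec (CommRingCat.of R))} {aY : AlgGrp.Action (Gm R) Y₀} {U : Y₀.left.Opens}
  (hU : Stable aY U) {G : Over S} [GrpObj G] {X : Over S} {aX : AlgGrp.Action G X}
  {K : Precoverage Scheme.{u}} [K.HasIsos]
  {Φ : sub (ThetaS.overS h (AlgSt.QuotSt K (Gm R) aY)) (InU K aY U) ⥤ᵇ
    AlgSt.QuotSt Scheme.fppfPrecoverage G aX}
  {B B₁ B₂ B₁₂ : Type u} [CommRing B] [Algebra R B] [CommRing B₁] [Algebra R B₁] [CommRing B₂]
  [Algebra R B₂] [CommRing B₁₂] [Algebra R B₁₂]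

theorem exists_fib [IsAffineHom G.hom] {y : CoactBr.sp R B ⟶ Y₀} {hy : y.left ⁻¹ᵁ U = ⊤}
    {f₁ : B →ₐ[R] B₁} {f₂ : B →ₐ[R] B₂} {g₁ : B₁ →ₐ[R] B₁₂}
    {g₂ : B₂ →ₐ[R] B₁₂} (H : Fib f₁.toRingHom f₂.toRingHom g₁.toRingHom g₂.toRingHom)
    {y₁ : CoactBr.sp R B₁ ⟶ Y₀} {hy₁ : y₁.left ⁻¹ᵁ U = ⊤} (e₁ : Tr (aY := aY) f₁ 1 y y₁)
    {y₂ : CoactBr.sp R B₂ ⟶ Y₀} {hy₂ : y₂.left ⁻¹ᵁ U = ⊤} (e₂ : Tr (aY := aY) f₂ 1 y y₂)
    {y₃ : CoactBr.sp R B₁₂ ⟶ Y₀} {hy₃ : y₃.left ⁻¹ᵁ U = ⊤} (d₁ : Tr (aY := aY) g₁ 1 y₁ y₃)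
    (d₂ : Tr (aY := aY) g₂ 1 y₂ y₃) (s₁ : RSec h hU Φ y₁ hy₁) (s₂ : RSec h hU Φ y₂ hy₂)
    (hs : rs (hy' := hy₃) d₁ s₁ = rs d₂ s₂) :
    ∃ s : RSec h hU Φ y hy, rs e₁ s = s₁ ∧ rs e₂ s = s₂ := by
  let c := cObj (K := K) h hU y hy
  let m₁ : cObj (K := K) h hU y₁ hy₁ ⟶ c := ar h hU (CoactBr.pt f₁) (gmPt 1) e₁
  let m₂ : cObj (K := K) h hU y₂ hy₂ ⟶ c := ar h hU (CoactBr.pt f₂) (gmPt 1) e₂
  let n₁ : cObj (K := K) h hU y₃ hy₃ ⟶ cObj (K := K) h hU y₁ hy₁ := ar h hU (CoactBr.pt g₁) (gmPt 1) d₁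
  let n₂ : cObj (K := K) h hU y₃ hy₃ ⟶ cObj (K := K) h hU y₂ hy₂ := ar h hU (CoactBr.pt g₂) (gmPt 1) d₂
  have hgf : g₁.comp f₁ = g₂.comp f₂ := AlgHom.ext fun b => congr($(H.comm) b)
  have key : ∀ (n n' : CoactBr.sp R B₁₂ ⟶ CoactBr.sp R B) (g g' : CoactBr.sp R B₁₂ ⟶ Gm R) (hn : n = n')
      (hg : g = g') (d : sm aY g (n ≫ y) = y₃) (d' : sm aY g' (n' ≫ y) = y₃),
      ar (K := K) h hU (hy' := hy₃) (hy := hy) n g d = ar h hU n' g' d' := by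
    rintro n _ g _ rfl rfl _ _; rfl
  have e0 : n₁ ≫ m₁ = n₂ ≫ m₂ := by
    have q₁ : sm aY (gmPt 1 * (CoactBr.pt g₁ ≫ gmPt 1)) ((CoactBr.pt g₁ ≫ CoactBr.pt f₁) ≫ y) = y₃ := by
      rw [sm_mul, Category.assoc, ← comp_sm]
      have : sm aY (gmPt 1) (CoactBr.pt f₁ ≫ y) = y₁ := e₁
      rw [this]; exact d₁
    have q₂ : sm aY (gmPt 1 * (CoactBr.pt g₂ ≫ gmPt 1)) ((CoactBr.pt g₂ ≫ CoactBr.pt f₂) ≫ y) = y₃ := by
      rw [sm_mul, Category.assoc, ← comp_sm]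
      have : sm aY (gmPt 1) (CoactBr.pt f₂ ≫ y) = y₂ := e₂
      rw [this]; exact d₂
    rw [ar_comp (K := K) h hU (h₃ := hy) (CoactBr.pt g₁) (gmPt 1) d₁ (CoactBr.pt f₁) (gmPt 1) e₁ q₁,
      ar_comp (K := K) h hU (h₃ := hy) (CoactBr.pt g₂) (gmPt 1) d₂ (CoactBr.pt f₂) (gmPt 1) e₂ q₂]
    apply key
    · rw [← CoactBr.pt_comp, ← CoactBr.pt_comp, hgf]
    · rw [gmPt_comp, gmPt_comp, map_one, map_one]
  let Tp := (Φ.obj c)
  haveI hpa : IsAffineHom Tp.π.left :=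
    K750.QuotAff.isAffineHom_quotObj Scheme.fppfPrecoverage_le_fpqcPrecoverage Tp
  haveI hba : IsAffine Tp.base.left := by
    have hiso : Tp.base.left ≅ Spec (CommRingCat.of B) := (Over.forget S).mapIso (asIso (eb Φ c)).symm
    exact IsAffine.of_isIso hiso.hom
  haveI : IsAffine Tp.P.left := isAffine_of_isAffineHom Tp.π.left
  have hs' : n₁ ≫ m₁ = n₂ ≫ m₂ := e0
  have e1 : (Over.map h).map (CoactBr.pt g₁) ≫ s₁.p ≫ (Φ.map m₁).top =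
      (Over.map h).map (CoactBr.pt g₂) ≫ s₂.p ≫ (Φ.map m₂).top := by
    have t1 := res_top n₁ s₁
    have t2 := res_top n₂ s₂
    have h1 : Φ.map n₁ ≫ Φ.map m₁ = Φ.map (n₁ ≫ m₁) := (Φ.toFunctor.map_comp _ _).symm
    have h2 : Φ.map n₂ ≫ Φ.map m₂ = Φ.map (n₂ ≫ m₂) := (Φ.toFunctor.map_comp _ _).symm
    have hs2 : res n₁ s₁ = res n₂ s₂ := hs
    calc _ = ((res n₁ s₁).p ≫ (Φ.map n₁).top) ≫ (Φ.map m₁).top := by rw [t1, Category.assoc]; rfl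
      _ = ((res n₂ s₂).p ≫ (Φ.map n₂).top) ≫ (Φ.map m₂).top := by
          rw [hs2, Category.assoc, Category.assoc, ← AlgSt.QuotObj.comp_top, ← AlgSt.QuotObj.comp_top, h1, h2, e0]
      _ = _ := by rw [t2, Category.assoc]; rfl
  obtain ⟨a, ha₁, ha₂⟩ := H.glue (P := Tp.P.left) (s₁.p ≫ (Φ.map m₁).top).left (s₂.p ≫ (Φ.map m₂).top).left
    (congrArg CommaMorphism.left e1)
  have hk₁ := congrArg CommaMorphism.left (top_π m₁ s₁)
  have hk₂ := congrArg CommaMorphism.left (top_π m₂ s₂)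
  have hπ : a ≫ Tp.π.left = (eb Φ c).left := by
    apply H.ext
    · rw [← Category.assoc, ha₁]; exact hk₁
    · rw [← Category.assoc, ha₂]; exact hk₂
  have ha : a ≫ Tp.P.hom = ((Over.map h).obj (CoactBr.sp R B)).hom := by
    rw [← Over.w Tp.π, ← Category.assoc, hπ]; exact Over.w (eb Φ c)
  let s : RSec h hU Φ y hy := ⟨Over.homMk a ha, Over.OverMorphism.ext hπ⟩
  refine ⟨s, ?_, ?_⟩
  · apply ext_top m₁
    have h3 : (rs e₁ s).p ≫ (Φ.map m₁).top = (Over.map h).map (CoactBr.pt f₁) ≫ s.p := res_top m₁ s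
    rw [h3]
    apply Over.OverMorphism.ext
    exact ha₁
  · apply ext_top m₂
    have h3 : (rs e₂ s).p ≫ (Φ.map m₂).top = (Over.map h).map (CoactBr.pt f₂) ≫ s.p := res_top m₂ s
    rw [h3]
    apply Over.OverMorphism.ext
    exact ha₂

end fib

end K686.SecGlue
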