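import Groth.Agent.ThetaS.K686.ThRot
import Groth.Agent.ThetaS.K686.SecGlue
import Mathlib.RingTheory.Localization.Algebra
import Mathlib.RingTheory.PowerSeries.NoZeroDivisors

/-!
# The diagram of rings `O[x, x⁻¹] → F[x, x⁻¹] → F((x)) ← F⟦x⟧ ← F[x] ← O[x]`
-/

set_option autoImplicit false
set_option linter.style.haveILetI false

universe u

open PowerSeries AlgebraicGeometry CategoryTheory
open scoped Polynomial
open K686.ThRot K686.SecGlue

namespace K686.ThRings

section gen

variable {R : Type u} [CommRing R] {B : Type u} [CommRing B] [Algebra R B] {B₁ : Type u} [CommRing B₁]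
  [Algebra R B₁] [Algebra B B₁] [IsScalarTower R B B₁] {P : Type u} [CommRing P] [Algebra R P]
  (a : B) [IsLocalization.Away a B₁]

/-- Algebra maps out of `B[1/a]`. -/
theorem exists_away (f : B →ₐ[R] P) (hf : IsUnit (f a)) :
    ∃ g : B₁ →ₐ[R] P, g.comp (IsScalarTower.toAlgHom R B B₁) = f := by
  have h : ∀ y : Submonoid.powers a, IsUnit (f y) := by
    rintro ⟨_, n, rfl⟩
    change IsUnit (f (a ^ n))
    rw [map_pow]
    exact hf.pow n
  refine ⟨IsLocalization.liftAlgHom h, ?_⟩
  apply AlgHom.ext
  intro x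
  rw [AlgHom.comp_apply, IsLocalization.liftAlgHom_apply, IsScalarTower.toAlgHom_apply, IsLocalization.lift_eq]
  rfl

variable {K : Type u} [Field K] [Algebra B K] [Algebra R K] [IsScalarTower R B K]
  {L : Type u} [Field L] [Algebra R L]

/-- Algebra maps out of the fraction field. -/
theorem exists_frac [IsDomain B] [IsFractionRing B K] (f : B →ₐ[R] L) (hf : Function.Injective f) :
    ∃ g : K →ₐ[R] L, g.comp (IsScalarTower.toAlgHom R B K) = f := by
  refine ⟨IsFractionRing.liftAlgHom hf, ?_⟩
  apply AlgHom.ext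
  intro x
  rw [AlgHom.comp_apply, IsFractionRing.liftAlgHom_apply, IsScalarTower.toAlgHom_apply,
    IsFractionRing.lift_algebraMap]
  rfl

end gen

section one

variable (R : Type u) [CommRing R] (F : Type u) [Field F] [Algebra R F]
  (K : Type u) [Field K] [Algebra F⟦X⟧ K] [IsFractionRing F⟦X⟧ K] [Algebra R K] [IsScalarTower R F⟦X⟧ K]

/-- `F⟦x⟧ → F((x))` -/
noncomputable def jj : F⟦X⟧ →ₐ[R] K := IsScalarTower.toAlgHom R F⟦X⟧ K

omit [IsFractionRing F⟦X⟧ K] in
theorem jj_apply (f : F⟦X⟧) : jj R F K f = algebraMap F⟦X⟧ K f := rfl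

theorem jj_injective : Function.Injective (jj R F K) := IsFractionRing.injective F⟦X⟧ K

/-- The unit `x`. -/
noncomputable def xx : Kˣ := Units.mk0 (algebraMap F⟦X⟧ K X) fun h =>
  PowerSeries.X_ne_zero (IsFractionRing.injective F⟦X⟧ K (h.trans (map_zero _).symm))

theorem jj_X : jj R F K X = xx F K := rfl

theorem rs_injective {τ : F} (hτ : τ ≠ 0) : Function.Injective (rs R τ) := by
  intro f g h
  ext n
  have h1 := congrArg (coeff n) h
  rw [rs_apply, rs_apply, coeff_rescale, coeff_rescale] at h1
  exact mul_left_cancel₀ (pow_ne_zero n hτ) h1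

/-- The rotation `f(x) ↦ f(τ x)` of `F((x))`. -/
theorem exists_rot (τ : F) (hτ : τ ≠ 0) : ∃ r : K →ₐ[R] K, r.comp (jj R F K) = (jj R F K).comp (rs R τ) :=
  exists_frac (B := F⟦X⟧) _ ((jj_injective R F K).comp (rs_injective R F hτ))

/-- Polynomials as power series. -/
noncomputable def pc : F[X] →ₐ[R] F⟦X⟧ := (Polynomial.coeToPowerSeries.algHom (R := F) F).restrictScalars R

theorem pc_apply (p : F[X]) : pc R F p = (p : F⟦X⟧) := by
  change Polynomial.coeToPowerSeries.algHom (R := F) F p = _
  rw [Polynomial.coeToPowerSeries.algHom_apply]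
  ext n
  simp

/-- `F[x, x⁻¹]` -/
abbrev MF : Type u := Localization.Away (Polynomial.X : F[X])

/-- `F[x] → F[x, x⁻¹]` -/
noncomputable def g3 : F[X] →ₐ[R] MF F := IsScalarTower.toAlgHom R F[X] (MF F)

theorem isUnit_g3 : IsUnit (g3 R F Polynomial.X) :=
  IsLocalization.Away.algebraMap_isUnit (S := MF F) (Polynomial.X : F[X])

theorem exists_psi : ∃ ψ : MF F →ₐ[R] K, ψ.comp (g3 R F) = (jj R F K).comp (pc R F) := by
  refine exists_away (Polynomial.X : F[X]) _ ?_
  rw [AlgHom.comp_apply, pc_apply, Polynomial.coe_X, jj_X]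
  exact (xx F K).isUnit

/-- `F[x, x⁻¹] → F((x))` -/
noncomputable def psi : MF F →ₐ[R] K := (exists_psi R F K).choose

theorem psi_g3 : (psi R F K).comp (g3 R F) = (jj R F K).comp (pc R F) := (exists_psi R F K).choose_spec

theorem fib : Fib (g3 R F).toRingHom (pc R F).toRingHom (psi R F K).toRingHom (jj R F K).toRingHom where
  comm := RingHom.ext fun p => AlgHom.congr_fun (psi_g3 R F K) p
  inj b b' _ h := by
    have h1 : pc R F b = pc R F b' := h
    rw [pc_apply, pc_apply] at h1
    exact Polynomial.coe_injective F h1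
  ex m s hms := by
    have hms' : psi R F K m = jj R F K s := hms
    obtain ⟨n, p, hp⟩ := IsLocalization.Away.surj (Polynomial.X : F[X]) m
    have hp' : m * g3 R F Polynomial.X ^ n = g3 R F p := hp
    have hu : IsUnit (g3 R F Polynomial.X ^ n) := (isUnit_g3 R F).pow n
    have h1 := congrArg (psi R F K) hp'
    rw [map_mul, map_pow, hms', ← AlgHom.comp_apply, ← AlgHom.comp_apply, psi_g3, AlgHom.comp_apply,
      AlgHom.comp_apply, ← map_pow, ← map_mul] at h1
    have h2 := jj_injective R F K h1
    rw [pc_apply, pc_apply, Polynomial.coe_X] at h2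
    have h3 : (Polynomial.X : F[X]) ^ n ∣ p := by
      rw [Polynomial.X_pow_dvd_iff]
      intro d hd
      rw [← Polynomial.coeff_coe, ← h2, coeff_mul_X_pow', if_neg (by omega)]
    obtain ⟨q, rfl⟩ := h3
    refine ⟨q, ?_, ?_⟩
    · change g3 R F q = m
      rw [map_mul, map_pow, mul_comm] at hp'
      exact (hu.mul_left_cancel hp').symm
    · change pc R F q = s
      rw [Polynomial.coe_mul, Polynomial.coe_pow, Polynomial.coe_X, mul_comm] at h2
      rw [pc_apply]
      exact (mul_left_cancel₀ (pow_ne_zero n PowerSeries.X_ne_zero) h2).symm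

end one

section two

variable (R : Type u) [CommRing R] (O : Type u) [CommRing O] [Algebra R O] (F : Type u) [Field F]
  [Algebra R F] [Algebra O F] [IsScalarTower R O F]

/-- `O[x, x⁻¹]` -/
abbrev LO : Type u := Localization.Away (Polynomial.X : O[X])

/-- `O[x] → O[x, x⁻¹]` -/
noncomputable def g1 : O[X] →ₐ[R] LO O := IsScalarTower.toAlgHom R O[X] (LO O)

/-- `O[x] → F[x]` -/
noncomputable def g2 : O[X] →ₐ[R] F[X] := Polynomial.mapAlgHom (IsScalarTower.toAlgHom R O F)

theorem g2_X : g2 R O F Polynomial.X = Polynomial.X := Polynomial.map_X _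

theorem g2_C (c : O) : g2 R O F (Polynomial.C c) = Polynomial.C (algebraMap O F c) := Polynomial.map_C _

theorem isUnit_g1 : IsUnit (g1 R O Polynomial.X) :=
  IsLocalization.Away.algebraMap_isUnit (S := LO O) (Polynomial.X : O[X])

theorem exists_phi : ∃ φ : LO O →ₐ[R] MF F, φ.comp (g1 R O) = (g3 R F).comp (g2 R O F) := by
  refine exists_away (Polynomial.X : O[X]) _ ?_
  rw [AlgHom.comp_apply, g2_X]
  exact isUnit_g3 R F

/-- `O[x, x⁻¹] → F[x, x⁻¹]` -/
noncomputable def phi : LO O →ₐ[R] MF F := (exists_phi R O F).choose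

theorem phi_g1 : (phi R O F).comp (g1 R O) = (g3 R F).comp (g2 R O F) := (exists_phi R O F).choose_spec

theorem loc_g1 : Loc (g1 R O).toRingHom (Polynomial.X : O[X]) :=
  Loc.of_isLocalization (B₁ := LO O) (Polynomial.X : O[X])

attribute [local instance] Polynomial.algebra Polynomial.isLocalization in
theorem loc_g2 (c : O) [hc : IsLocalization.Away c F] : Loc (g2 R O F).toRingHom (Polynomial.C c) := by
  haveI : IsLocalization.Away (Polynomial.C c) F[X] := by
    have h := Polynomial.isLocalization (Submonoid.powers c) F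
    rwa [Submonoid.map_powers] at h
  exact Loc.of_isLocalization (B₁ := F[X]) (Polynomial.C c)

attribute [local instance] Polynomial.algebra Polynomial.isLocalization in
theorem loc_phi (c : O) [hc : IsLocalization.Away c F] :
    Loc (phi R O F).toRingHom (g1 R O (Polynomial.C c)) := by
  haveI : IsLocalization.Away (Polynomial.C c) F[X] := by
    have h := Polynomial.isLocalization (Submonoid.powers c) F
    rwa [Submonoid.map_powers] at h
  letI : Algebra (LO O) (MF F) := (phi R O F).toRingHom.toAlgebra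
  haveI : IsScalarTower O[X] (LO O) (MF F) := IsScalarTower.of_algebraMap_eq fun x => by
    rw [IsScalarTower.algebraMap_apply O[X] F[X] (MF F)]
    exact (AlgHom.congr_fun (phi_g1 R O F) x).symm
  haveI : IsLocalization.Away (algebraMap O[X] F[X] Polynomial.X) (MF F) := by
    have : algebraMap O[X] F[X] Polynomial.X = Polynomial.X := g2_X R O F
    rw [this]; infer_instance
  haveI := IsLocalization.Away.commutes (LO O) F[X] (MF F) (Polynomial.X : O[X]) (Polynomial.C c)
  exact Loc.of_isLocalization (B := LO O) (B₁ := MF F) (algebraMap O[X] (LO O) (Polynomial.C c))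

end two

end K686.ThRings
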