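import Groth.Agent.GIT.K209.Dict
import Groth.Agent.PRed.K542.CartanRed
import Groth.Agent.AGF.K492.RedDict
import Groth.Agent.ThetaS.K686.ThRings
import Mathlib.RingTheory.PowerSeries.Inverse

/-!
# Cartan and Iwasawa decompositions of reductive groups, in the form used for `[X/G]`
-/

set_option autoImplicit false
set_option linter.style.haveILetI false

universe u

open CategoryTheory AlgebraicGeometry WithConv
open Groth.Agent.Books.DynBasic Groth.Agent.Books.DynLim Groth.Agent.Books.DynConn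
  Groth.Agent.Books.DynOpen Groth.Agent.Books.DynCell Groth.Agent.Sga3B.RG Groth.Agent.Sga3B.Parab.BorelPts172
open K542.Iwasawa K542.Cartan
open scoped LaurentPolynomial PowerSeries

namespace K686.RedCI

variable {k : Type u} [Field k] [IsAlgClosed k] {A : Type u} [CommRing A] [HopfAlgebra k A]

/-- **Cartan decomposition** over a discrete valuation ring. -/
theorem cartan (hG : Red.IsReductiveOver k (CoactBr.sp k A)) {O K : Type u} [CommRing O] [IsDomain O]
    [IsDiscreteValuationRing O] [Algebra k O] [Field K] [Algebra k K] [Algebra O K] [IsFractionRing O K]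
    [IsScalarTower k O K] (π : O) (hπ : Irreducible π) (u : Kˣ) (hu : (u : K) = algebraMap O K π)
    (g : WithConv (A →ₐ[k] K)) :
    ∃ (a b : WithConv (A →ₐ[k] O)) (lam : A →ₐc[k] k[T;T⁻¹]),
      g = mapPt (IsScalarTower.toAlgHom k O K) a * lamU lam u * mapPt (IsScalarTower.toAlgHom k O K) b := by
  obtain ⟨a, b, lam, h⟩ := K209.Dict.cartan_hopf hG π hπ u hu (K687.Pt.mk g.ofConv)
  refine ⟨a.toWC, b.toWC, lam, ?_⟩
  have h1 := congrArg K687.Pt.toWC h
  rw [K687.Pt.toWC_mul, K687.Pt.toWC_mul] at h1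
  have h2 : (K687.Pt.mk g.ofConv).toWC = g := rfl
  rw [h2] at h1
  have h3 : (K687.Pt.mk ((K687.evU k u).comp (lam : A →ₐ[k] k[T;T⁻¹])) : K687.Pt k A K).toWC = lamU lam u := by
    apply WithConv.ofConv_injective
    change (K687.evU k u).comp (lam : A →ₐ[k] k[T;T⁻¹]) = (evU k u).comp (lam : A →ₐ[k] k[T;T⁻¹])
    congr 1
  rw [h3] at h1
  exact h1

/-- **Iwasawa decomposition** with respect to `P(λ)`. -/
theorem iwasawa [Algebra.FiniteType k A] [IsDomain A] (hred : IsRedPt k A) (lam : A →ₐc[k] k[T;T⁻¹])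
    {F : Type u} [Field F] [Algebra k F] (O : ValuationSubring F) (hO : ∀ c : k, algebraMap k F c ∈ O)
    (a : WithConv (A →ₐ[k] F)) :
    ∃ p ∈ PSub lam F, ∃ h : WithConv (A →ₐ[k] F), (∀ f, h.ofConv f ∈ O) ∧ a = p * h := by
  obtain ⟨B, hB, hle⟩ := PbGen.exists_isBorelPt_le (CertRed.rankOnePt k) hred lam
  obtain ⟨P, hP, H⟩ := exists_iwasawa hB hle O hO a⁻¹
  obtain ⟨y, hy⟩ := exists_pt_ne (K := k) hP
  obtain ⟨u, -, huO, b, hb, e⟩ := H (toConv y) hy
  refine ⟨b⁻¹, inv_mem hb, u⁻¹ * ext F (toConv y), mul_mem' (fun f => ?_) (ext_mem hO _), ?_⟩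
  · rw [inv_def]
    exact huO _
  · have h1 : a = (u * b)⁻¹ * ext F (toConv y) := by
      rw [← e]; group
    rw [h1]; group

/-- The decompositions used for the punctured `Θ_R`. -/
theorem hCI (hG : Red.IsReductiveOver k (CoactBr.sp k A)) {F : Type u} [Field F] [Algebra k F]
    (O : ValuationSubring F) (hO : ∀ c : k, algebraMap k F c ∈ O) {K : Type u} [Field K] [Algebra F⟦X⟧ K]
    [IsFractionRing F⟦X⟧ K] [Algebra k K] [IsScalarTower k F⟦X⟧ K] (g : WithConv (A →ₐ[k] K)) :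
    ∃ (b a : WithConv (A →ₐ[k] F⟦X⟧)) (lam : A →ₐc[k] k[T;T⁻¹]),
      g = mapPt (ThRings.jj k F K) b * lamU lam (ThRings.xx F K) * mapPt (ThRings.jj k F K) a ∧
        ∀ a₀ : WithConv (A →ₐ[k] F), ∃ p ∈ PSub lam F, ∃ h : WithConv (A →ₐ[k] F),
          (∀ f, h.ofConv f ∈ O) ∧ a₀ = p * h := by
  have hft : Algebra.FiniteType k A := by
    haveI : Smooth (CoactBr.sp k A).hom := hG.2.1
    have : LocallyOfFiniteType (CoactBr.sp k A).hom := inferInstance
    exact (Groth.Agent.Books.AffBridge2.locallyOfFiniteType_specOver_iff k A).1 this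
  obtain ⟨hdom, hred⟩ := (BrRed2.isReductiveOver_iff (K := k) (A := A)).1 hG
  obtain ⟨a, b, lam, h⟩ := cartan hG (O := F⟦X⟧) (K := K) PowerSeries.X PowerSeries.X_irreducible
    (ThRings.xx F K) rfl g
  exact ⟨a, b, lam, h, fun a₀ => iwasawa hred lam O hO a₀⟩

end K686.RedCI
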