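import Groth.Agent.ThetaS.K686.Sect
import Groth.Agent.S2268
import Groth.Agent.Par.K547.HensLift
import Groth.Agent.NonAbH1.K551.Tors
import Groth.Agent.AlgSt.K750.QuotAff
import Mathlib.AlgebraicGeometry.Morphisms.LocalFlatDescent

/-!
# Sections over strictly henselian local rings
-/

set_option backward.isDefEq.respectTransparency false
set_option backward.isDefEq.respectTransparency.types false
set_option autoImplicit false
set_option linter.style.haveILetI false

universe v w u

open CategoryTheory CategoryTheory.Limits MonoidalCategory CartesianMonoidalCategory MonObj GrpObj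
  AlgebraicGeometry
open K943.QuotAtlas K686.Sect

namespace K686.SecLift

/-- Points over a henselian local ring with algebraically closed residue field lift along smooth
surjective morphisms. -/
theorem exists_lift_of_smooth {R : Type u} [CommRing R] [HenselianLocalRing R]
    [IsAlgClosed (IsLocalRing.ResidueField R)] {X Y : Scheme.{u}} (q : X ⟶ Y) [Smooth q] [Surjective q]
    (y : Spec (CommRingCat.of R) ⟶ Y) : ∃ x : Spec (CommRingCat.of R) ⟶ X, x ≫ q = y := by
  obtain ⟨x₀, hx₀⟩ := (Groth.Agent.S2268.result q).mp inferInstance (IsLocalRing.ResidueField R)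
    (Spec.map (CommRingCat.ofHom (IsLocalRing.residue R)) ≫ y)
  obtain ⟨a, ha, -⟩ := Groth.Agent.K547.HensLift.exists_lift q y x₀ hx₀
  exact ⟨a, ha⟩

variable {S : Scheme.{u}} {G : Over S} [GrpObj G] {X : Over S} {aX : AlgGrp.Action G X}

theorem smooth_snd (H W : Over S) [Smooth H.hom] : Smooth (snd H W).left := by
  have h := (AlgSt.isPullback_fst_snd H W).map (Over.forget S)
  have h' : IsPullback (fst H W).left (snd H W).left (toUnit H).left (toUnit W).left := h
  have h'' : Smooth (toUnit H).left := by
    have : (toUnit H).left = H.hom := by simp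
    rw [this]; infer_instance
  exact MorphismProperty.of_isPullback h' h''

/-- Torsors under smooth groups are smooth. -/
theorem smooth_π [Smooth G.hom] (x : AlgSt.QuotObj Scheme.fppfPrecoverage G aX) : Smooth x.π.left := by
  obtain ⟨S', c, hcs, hcf, hcl, s, hs⟩ := K551.Tors.exists_cover_of_isLocallyTrivial x.loc
  have hs' : s ≫ x.π.left = c := hs
  let T : Over S := Over.mk (c ≫ x.base.hom)
  let t : T ⟶ x.P := Over.homMk s (by
    change s ≫ x.P.hom = c ≫ x.base.hom
    rw [← Over.w x.π, ← Category.assoc, hs'])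
  have h2 : IsPullback ((G ◁ t) ≫ x.act.act).left (snd G T).left x.π.left (t ≫ x.π).left :=
    (K750.QuotAff.isPullback_of_pt x.act x.cart t).map (Over.forget S)
  have h3 : (t ≫ x.π).left = c := hs'
  rw [h3] at h2
  haveI := smooth_snd G T
  exact MorphismProperty.of_isPullback_of_descendsAlong
    (P := @Smooth) (Q := @Surjective ⊓ @Flat ⊓ @LocallyOfFinitePresentation) h2.flip
    ⟨⟨hcs, hcf⟩, hcl⟩ inferInstance

theorem surjective_π (x : AlgSt.QuotObj Scheme.fppfPrecoverage G aX) : Surjective x.π.left :=
  K551.Tors.surjective_of_isLocallyTrivial x.loc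

variable {𝒜 : BasedCategory.{v, w} (Over S)} (Φ : 𝒜 ⥤ᵇ AlgSt.QuotSt Scheme.fppfPrecoverage G aX)

/-- Sections over strictly henselian local rings. -/
theorem exists_sec_hens [Smooth G.hom] {B : Type u} [CommRing B] [HenselianLocalRing B]
    [IsAlgClosed (IsLocalRing.ResidueField B)] (c : 𝒜.obj)
    (b : (𝒜.p.obj c).left ≅ Spec (CommRingCat.of B)) : Nonempty (Sec Φ c) := by
  haveI := smooth_π (Φ.obj c)
  haveI := surjective_π (Φ.obj c)
  obtain ⟨x, hx⟩ := exists_lift_of_smooth (Φ.obj c).π.left (b.inv ≫ (eb Φ c).left)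
  have h1 : (b.hom ≫ x) ≫ (Φ.obj c).π.left = (eb Φ c).left := by
    rw [Category.assoc, hx, Iso.hom_inv_id_assoc]
  refine ⟨⟨Over.homMk (b.hom ≫ x) ?_, ?_⟩⟩
  · rw [← Over.w (Φ.obj c).π, ← Category.assoc, h1, Over.w]
  · apply Over.OverMorphism.ext
    exact h1

end K686.SecLift
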