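import Groth.Agent.ThetaS.K686.SecRing
import Groth.Agent.ThetaS.K942.Coord

/-!
# Ring-valued points of the line and of the node

`lp b`, `np a b`: the ring-valued points; `tr_line`, `tr_st`: the action of units; `mem_line`, `mem_st`:
the preimages of the open parts; `ga`: the action of the algebraic points of the group on sections.
-/

set_option autoImplicit false
set_option linter.dupNamespace false
set_option linter.style.haveILetI false
set_option backward.isDefEq.respectTransparency false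
set_option backward.isDefEq.respectTransparency.types false

universe u

open CategoryTheory CategoryTheory.Limits MonoidalCategory CartesianMonoidalCategory MonObj GrpObj
  AlgebraicGeometry TopologicalSpace Opposite WithConv
open FibCat K943.FibBase K943.CoverExt K943.QuotAtlas K943.QuotCover K943.LocPair K943.QuotOpen
  K943.QuotTriv K943.SelfLift K686.Sect K686.SecObj K686.SecRing K942.Coord
open Groth.Agent.Books.DynBasic
open scoped TensorProduct Polynomial

namespace K686.SecLine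

open ThetaS K951.Pts

attribute [local instance] K951.Pts.algΓ

section pts

variable {R : Type u} [CommRing R] {B B' : Type u} [CommRing B] [Algebra R B] [CommRing B']
  [Algebra R B']

theorem pt_fn {A B : Type u} [CommRing A] [CommRing B] [Algebra R A] [Algebra R B] (φ : B →ₐ[R] A) (b : B) :
    fn (CoactBr.pt φ) b = (Scheme.ΓSpecIso (CommRingCat.of A)).inv.hom (φ b) :=
  congr($(Scheme.ΓSpecIso_inv_naturality (CommRingCat.ofHom φ.toRingHom)) b).symm

theorem mem_bo (b : B) (x : PrimeSpectrum B) :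
    x ∈ (Spec (CommRingCat.of B)).basicOpen ((Scheme.ΓSpecIso (CommRingCat.of B)).inv.hom b) ↔
      x ∈ PrimeSpectrum.basicOpen b := by
  have h := basicOpen_eq_of_affine (R := CommRingCat.of B) b
  exact iff_of_eq congr(x ∈ $h)

/-- The point with coordinate `b` of the line. -/
noncomputable abbrev lp (b : B) : CoactBr.sp R B ⟶ Line R := CoactBr.pt (linePt b)

theorem tr_line {f : B →ₐ[R] B'} {u : B'ˣ} {b : B} {b' : B'} (e : u * f b = b') :
    Tr (aY := lineAction R) f u (lp b) (lp b') := by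
  unfold Tr
  have h1 : CoactBr.pt f ≫ lp b = CoactBr.pt (linePt (f b)) := by
    rw [← CoactBr.pt_comp]
    congr 1
    apply Polynomial.algHom_ext
    simp
  rw [h1, sm_def, gmPt, lineAction_pt, gmHom_zPow, zpow_one, e]

theorem mem_line (ϖ : R) (b : B) (x : PrimeSpectrum B) :
    x ∈ (lp b).left ⁻¹ᵁ Uline ϖ ↔ x ∈ PrimeSpectrum.basicOpen b ∨
      x ∈ PrimeSpectrum.basicOpen (algebraMap R B ϖ) := by
  rw [preimage_Uline, pt_fn, pt_fn, linePt, Polynomial.aeval_X, Polynomial.aeval_C]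
  exact or_congr (mem_bo _ _) (mem_bo _ _)

theorem top_line {ϖ : R} {b : B} (hb : IsCoprime b (algebraMap R B ϖ)) :
    (lp b).left ⁻¹ᵁ Uline ϖ = ⊤ := by
  ext x
  refine ⟨fun _ => trivial, fun _ => (mem_line ϖ b x).2 ?_⟩
  by_contra hx
  rw [not_or, PrimeSpectrum.mem_basicOpen, PrimeSpectrum.mem_basicOpen, not_not, not_not] at hx
  obtain ⟨p, q, hpq⟩ := hb
  exact x.2.ne_top ((Ideal.eq_top_iff_one _).2 (hpq ▸ x.asIdeal.add_mem
    (x.asIdeal.mul_mem_left _ hx.1) (x.asIdeal.mul_mem_left _ hx.2)))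

variable {π : R}

/-- The point `(a, b)` of the node. -/
noncomputable abbrev np (a b : B) (hab : a * b = algebraMap R B π) : CoactBr.sp R B ⟶ STSch R π :=
  CoactBr.pt (stPt a b hab)

theorem tr_st {f : B →ₐ[R] B'} {u : B'ˣ} {a b : B} {hab : a * b = algebraMap R B π} {a' b' : B'}
    {hab' : a' * b' = algebraMap R B' π} (ea : u * f a = a') (eb : (u⁻¹ : B'ˣ) * f b = b') :
    Tr (aY := stAction R π) f u (np a b hab) (np a' b' hab') := by
  unfold Tr
  have h0 : f a * f b = algebraMap R B' π := by rw [← map_mul, hab, AlgHom.commutes]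
  have h1 : CoactBr.pt f ≫ np a b hab = CoactBr.pt (stPt (f a) (f b) h0) := by
    rw [← CoactBr.pt_comp]
    congr 1
    apply stRing_algHom_ext
    · simp
    · simp
  rw [h1, sm_def, gmPt, stAction_pt]
  congr 1
  apply stRing_algHom_ext
  · rw [stPt_sFn, stPt_sFn, gmHom_zPow, zpow_one, ea]
  · rw [stPt_tFn, stPt_tFn, gmHom_zPow, zpow_neg, zpow_one, eb]

theorem mem_st (a b : B) (hab : a * b = algebraMap R B π) (x : PrimeSpectrum B) :
    x ∈ (np a b hab).left ⁻¹ᵁ Ust π ↔ x ∈ PrimeSpectrum.basicOpen a ∨ x ∈ PrimeSpectrum.basicOpen b := by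
  rw [preimage_Ust, pt_fn, pt_fn, stPt_sFn, stPt_tFn]
  exact or_congr (mem_bo _ _) (mem_bo _ _)

theorem top_st {a b : B} (hab : a * b = algebraMap R B π) (hb : IsCoprime a b) :
    (np a b hab).left ⁻¹ᵁ Ust π = ⊤ := by
  ext x
  refine ⟨fun _ => trivial, fun _ => (mem_st a b hab x).2 ?_⟩
  by_contra hx
  rw [not_or, PrimeSpectrum.mem_basicOpen, PrimeSpectrum.mem_basicOpen, not_not, not_not] at hx
  obtain ⟨p, q, hpq⟩ := hb
  exact x.2.ne_top ((Ideal.eq_top_iff_one _).2 (hpq ▸ x.asIdeal.add_mem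
    (x.asIdeal.mul_mem_left _ hx.1) (x.asIdeal.mul_mem_left _ hx.2)))

end pts

section ga

variable {k : Type u} [CommRing k] {R : Type u} [CommRing R] [Algebra k R]
  {B : Type u} [CommRing B] [Algebra R B] [Algebra k B] [IsScalarTower k R B]
  {B' : Type u} [CommRing B'] [Algebra R B'] [Algebra k B'] [IsScalarTower k R B']
  {A : Type u} [CommRing A] [HopfAlgebra k A] {G : Over (Spec (CommRingCat.of k))} [GrpObj G]
  (ε : G ≅ CoactBr.sp k A) [IsMonHom ε.inv]
  {Y₀ : Over (Spec (CommRingCat.of R))} {aY : AlgGrp.Action (Gm R) Y₀} {U : Y₀.left.Opens}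
  (hU : Stable aY U) {X : Over (Spec (CommRingCat.of k))} {aX : AlgGrp.Action G X}
  {K K' : Precoverage Scheme.{u}} [K.HasIsos]
  {Φ : sub (ThetaS.overS (Spec.map (CommRingCat.ofHom (algebraMap k R))) (AlgSt.QuotSt K (Gm R) aY))
    (InU K aY U) ⥤ᵇ AlgSt.QuotSt K' G aX}

variable {y : CoactBr.sp R B ⟶ Y₀} {hy : y.left ⁻¹ᵁ U = ⊤} {y' : CoactBr.sp R B' ⟶ Y₀}
  {hy' : y'.left ⁻¹ᵁ U = ⊤}

variable {hU}

/-- The action of algebraic points on sections. -/
noncomputable def ga (g : WithConv (A →ₐ[k] B)) (s : RSec _ hU Φ y hy) : RSec _ hU Φ y hy :=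
  act (gp ε g) s

theorem ga_mul (g g' : WithConv (A →ₐ[k] B)) (s : RSec _ hU Φ y hy) :
    ga ε (g * g') s = ga ε g (ga ε g' s) := by
  rw [ga, gp_mul]; exact act_mul _ _ _

omit [IsMonHom ε.inv] in
theorem exists_ga (s s' : RSec _ hU Φ y hy) : ∃ g : WithConv (A →ₐ[k] B), s' = ga ε g s := by
  obtain ⟨g, hg⟩ := exists_act s s'
  obtain ⟨γ, hγ⟩ := gp_surjective ε g
  refine ⟨γ, ?_⟩
  rw [hg, ga]
  exact congrArg (fun t => act t s) hγ.symm

omit [IsMonHom ε.inv] in
theorem ga_injective (s : RSec _ hU Φ y hy) {g g' : WithConv (A →ₐ[k] B)} (h : ga ε g s = ga ε g' s) :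
    g = g' :=
  gp_injective ε (act_injective s h)

omit [IsMonHom ε.inv] in
theorem rs_ga {f : B →ₐ[R] B'} {u : B'ˣ} (e : Tr (aY := aY) f u y y') (g : WithConv (A →ₐ[k] B))
    (s : RSec _ hU Φ y hy) :
    rs (hy' := hy') e (ga ε g s) = ga ε (mapPt (f.restrictScalars k) g) (rs (hy' := hy') e s) := by
  rw [ga, rs_act, ga]
  exact congrArg (fun t => act t _) (gp_map ε f g)

end ga

end K686.SecLine
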