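import Groth.Agent.W4c1limliniiii.K807.HenselN
import Groth.Agent.ThetaS.K943.BcRing
import Groth.Agent.ThetaS.K686.SecLine
import Mathlib.RingTheory.Flat.TorsionFree
import Mathlib.RingTheory.Flat.FaithfullyFlat.Algebra
import Mathlib.FieldTheory.IsAlgClosed.AlgebraicClosure

/-!
# The valuation ring of an algebraic closure over a discrete valuation ring

`exists_val`: for a discrete valuation ring `R` with uniformizer `ϖ` there are an algebraically closed
field `F ⊇ R` and a valuation subring `O` of `F` dominating `R` with `F = O[1/ϖ]`; `O` is henselian with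
algebraically closed residue field, and `R → O` is faithfully flat.
-/

set_option autoImplicit false
set_option linter.dupNamespace false
set_option linter.style.haveILetI false
set_option backward.isDefEq.respectTransparency false
set_option backward.isDefEq.respectTransparency.types false

universe u

open CategoryTheory CategoryTheory.Limits AlgebraicGeometry IsLocalRing
open scoped TensorProduct Polynomial

namespace K686.ValRing

section alg

variable (R : Type u) [CommRing R] [IsDomain R] [IsDiscreteValuationRing R]

/-- The algebraically closed field. -/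
abbrev FF : Type u := AlgebraicClosure (FractionRing R)

theorem injective_FF : Function.Injective (algebraMap R (FF R)) := by
  rw [IsScalarTower.algebraMap_eq R (FractionRing R) (FF R)]
  exact (algebraMap (FractionRing R) (FF R)).injective.comp (IsFractionRing.injective R (FractionRing R))

theorem exists_O : ∃ (O : ValuationSubring (FF R)) (h : ∀ x, algebraMap R (FF R) x ∈ O.toSubring),
    IsLocalHom ((algebraMap R (FF R)).codRestrict O.toSubring h) :=
  IsLocalRing.exists_factor_valuationRing (algebraMap R (FF R))

/-- The valuation ring. -/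
noncomputable def OO : ValuationSubring (FF R) := (exists_O R).choose

theorem mem_OO (x : R) : algebraMap R (FF R) x ∈ (OO R).toSubring := (exists_O R).choose_spec.choose x

/-- `R → O` -/
noncomputable def toO : R →+* OO R := (algebraMap R (FF R)).codRestrict (OO R).toSubring (mem_OO R)

theorem isLocalHom_toO : IsLocalHom (toO R) := (exists_O R).choose_spec.choose_spec

noncomputable instance : Algebra R (OO R) := (toO R).toAlgebra

theorem algebraMap_OO (x : R) : ((algebraMap R (OO R) x : OO R) : FF R) = algebraMap R (FF R) x := rfl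

instance : IsScalarTower R (OO R) (FF R) := IsScalarTower.of_algebraMap_eq fun _ => rfl

theorem injective_OO : Function.Injective (algebraMap R (OO R)) := fun _ _ h =>
  injective_FF R (congrArg Subtype.val h)

instance : Module.IsTorsionFree R (OO R) :=
  Module.isTorsionFree_iff_algebraMap_injective.2 (injective_OO R)

instance : HenselianLocalRing (OO R) := K807.HenselN.henselian (OO R)

instance : IsAlgClosed (ResidueField (OO R)) := K807.HenselN.residue_isAlgClosed (OO R)

variable {R}

theorem exists_pow {ϖ : R} (hϖ : Irreducible ϖ) (y : FF R) :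
    ∃ n : ℕ, algebraMap R (FF R) ϖ ^ n * y ∈ OO R := by
  have h1 : IsAlgebraic R y := by
    have h2 : IsAlgebraic (FractionRing R) y := Algebra.IsAlgebraic.isAlgebraic y
    exact (IsFractionRing.isAlgebraic_iff R (FractionRing R) (FF R)).2 h2
  obtain ⟨r, hr, hi⟩ := h1.exists_integral_multiple
  obtain ⟨n, u, rfl⟩ := IsDiscreteValuationRing.eq_unit_mul_pow_irreducible hr hϖ
  refine ⟨n, ?_⟩
  have h3 : algebraMap R (FF R) ϖ ^ n * y = algebraMap R (FF R) (u⁻¹ : Rˣ) * ((u * ϖ ^ n : R) • y) := by
    rw [Algebra.smul_def, map_mul, map_pow, ← mul_assoc, ← mul_assoc, ← map_mul, Units.inv_mul, map_one, one_mul]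
  rw [h3]
  have h4 : IsIntegral (OO R) (((u * ϖ ^ n : R)) • y) := hi.tower_top
  obtain ⟨z, hz⟩ := IsIntegrallyClosed.isIntegral_iff.1 h4
  rw [← hz]
  exact (OO R).mul_mem _ _ (mem_OO R _) z.2

theorem isLocalization {ϖ : R} (hϖ : Irreducible ϖ) : IsLocalization.Away (algebraMap R (OO R) ϖ) (FF R) := by
  have h0 : algebraMap R (FF R) ϖ ≠ 0 := fun h => hϖ.ne_zero (injective_FF R (h.trans (map_zero _).symm))
  refine ⟨?_, ?_, ?_⟩
  · rintro ⟨_, n, rfl⟩
    change IsUnit (algebraMap (OO R) (FF R) (algebraMap R (OO R) ϖ ^ n))
    rw [map_pow, ← IsScalarTower.algebraMap_apply]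
    exact (IsUnit.mk0 _ h0).pow n
  · intro y
    obtain ⟨n, hn⟩ := exists_pow hϖ y
    refine ⟨⟨⟨_, hn⟩, ⟨_, n, rfl⟩⟩, ?_⟩
    change y * algebraMap (OO R) (FF R) (algebraMap R (OO R) ϖ ^ n) = algebraMap R (FF R) ϖ ^ n * y
    rw [map_pow, ← IsScalarTower.algebraMap_apply, mul_comm]
  · intro _ _ hxy
    exact ⟨1, by rw [Subtype.coe_injective hxy]⟩

end alg

section geom

variable {R : Type u} [CommRing R] {B : Type u} [CommRing B] [Algebra R B]

theorem flat_surj_jj [IsLocalRing R] [IsLocalRing B] [Module.Flat R B] (hl : IsLocalHom (algebraMap R B)) :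
    Flat (K943.BcRing.jj R B) ∧ Surjective (K943.BcRing.jj R B) := by
  haveI := hl
  haveI : Module.FaithfullyFlat R B := Module.FaithfullyFlat.of_flat_of_isLocalHom
  constructor
  · rw [HasRingHomProperty.Spec_iff (P := @Flat)]
    exact (RingHom.flat_algebraMap_iff (R := R) (S := B)).2 inferInstance
  · exact ⟨PrimeSpectrum.comap_surjective_of_faithfullyFlat⟩

theorem flat_line (h : Flat (K943.BcRing.jj R B) ∧ Surjective (K943.BcRing.jj R B)) :
    Flat (SecLine.lp (R := R) (Polynomial.X : B[X])).left ∧
      Surjective (SecLine.lp (R := R) (Polynomial.X : B[X])).left := by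
  obtain ⟨h1, h2⟩ := h
  have e : (SecLine.lp (R := R) (Polynomial.X : B[X])).left = (K943.BcRing.rLine R B).left := by
    change Spec.map _ = Spec.map _
    congr 2
  rw [e]
  exact ⟨MorphismProperty.of_isPullback (K943.BcRing.isPullback_line (R := R) (R' := B)).flip h1,
    MorphismProperty.of_isPullback (K943.BcRing.isPullback_line (R := R) (R' := B)).flip h2⟩

theorem flat_st {π : R} (h : Flat (K943.BcRing.jj R B) ∧ Surjective (K943.BcRing.jj R B)) :
    Flat (K943.BcRing.rSt B π).left ∧ Surjective (K943.BcRing.rSt B π).left := by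
  obtain ⟨h1, h2⟩ := h
  exact ⟨MorphismProperty.of_isPullback (K943.BcRing.isPullback_st (R := R) (R' := B)).flip h1,
    MorphismProperty.of_isPullback (K943.BcRing.isPullback_st (R := R) (R' := B)).flip h2⟩

end geom

end K686.ValRing
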