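import Groth.Agent.ThetaS.K686.ThCore
import Groth.Agent.ThetaS.K686.SecLift
import Groth.Agent.ThetaS.K686.ValRing
import Groth.Agent.ThetaS.K686.RedCI
import Groth.Agent.ThetaS.K942.AffMain
import Groth.Agent.Lefpen.H714.Trait

/-!
# `[X/G]` is Θ-complete for connected reductive `G` and affine `X`
-/

set_option autoImplicit false
set_option linter.dupNamespace false
set_option linter.style.haveILetI false
set_option backward.isDefEq.respectTransparency false
set_option backward.isDefEq.respectTransparency.types false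

universe u

open CategoryTheory CategoryTheory.Limits MonoidalCategory CartesianMonoidalCategory MonObj GrpObj
  AlgebraicGeometry TopologicalSpace Opposite WithConv
open FibCat K943.FibBase K943.CoverExt K943.QuotAtlas K943.QuotCover K943.LocPair K943.QuotOpen
  K943.QuotTriv K943.SelfLift K686.Sect K686.SecObj K686.SecRing K686.SecLine K686.SecLift K686.SecGlue
  K686.ThRings K686.ThCore K942.Coord K686.ValRing
open Groth.Agent.Books.AffBridge
open scoped TensorProduct Polynomial PowerSeries LaurentPolynomial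

namespace K686.ThMain

open ThetaS

section crit

variable {S' S : Scheme.{u}} (h : S' ⟶ S) {H : Over S'} [GrpObj H] {Y₀ : Over S'}
  {aY : AlgGrp.Action H Y₀} {U : Y₀.left.Opens} (hU : Stable aY U) {G : Over S} [GrpObj G]
  {X : Over S} {aX : AlgGrp.Action G X}

include hU in
/-- **Criterion.** -/
theorem liftsUniquely_of_sec [Flat H.hom] [IsAffineHom H.hom] [IsAffine Y₀.left] [QuasiCompact U.ι]
    [IsAffineHom G.hom] [Flat G.hom] [LocallyOfFinitePresentation G.hom] [IsAffineHom X.hom]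
    (hg : FlatGood U)
    (hs : ∀ Φ : sub (ThetaS.overS h (AlgSt.QuotSt Scheme.fppfPrecoverage H aY))
        (InU Scheme.fppfPrecoverage aY U) ⥤ᵇ AlgSt.QuotSt Scheme.fppfPrecoverage G aX,
      ∃ (Z : Over S') (q : Z ⟶ Y₀), Flat q.left ∧ Surjective q.left ∧ IsAffine Z.left ∧
        Nonempty (Sec Φ (vObj (K := Scheme.fppfPrecoverage) h hU q))) :
    LiftSq.LiftsUniquely (subI (ThetaS.overS h (AlgSt.QuotSt Scheme.fppfPrecoverage H aY))
      (InU Scheme.fppfPrecoverage aY U)) (toSelf (AlgSt.QuotSt Scheme.fppfPrecoverage G aX)) := by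
  intro sq
  have hst := K750.QuotEff.isStack_quotSt (K := Scheme.fppfPrecoverage)
    Scheme.fppfPrecoverage_le_fpqcPrecoverage aX
  have hst' : Stk.IsPrestack (QuotSh.J Scheme.fppfPrecoverage S)
      (AlgSt.QuotSt Scheme.fppfPrecoverage G aX) := ⟨hst.1, fun _ R hR => prestackFor_of_stackFor (hst.2 R hR)⟩
  haveI : IsFibGrpd (AlgSt.QuotSt Scheme.fppfPrecoverage G aX).p := hst.1
  haveI := (isPrestack_self (QuotSh.J Scheme.fppfPrecoverage S)).1
  refine ⟨?_, uniqLift_quot h hU hst' (isPrestack_self _) (uniqFlat_of_good h hg) sq⟩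
  obtain ⟨Z, q, h1, h2, h3, h4⟩ := hs sq.top
  exact hasLift_of_sec h hU hg sq q h4

end crit

section opens

theorem quasiCompact_ι {X : Scheme.{u}} [IsAffine X] {U : X.Opens} {a b : Γ(X, ⊤)}
    (h : U = X.basicOpen a ⊔ X.basicOpen b) : QuasiCompact U.ι := by
  have hc : IsCompact (U : Set X) := by
    rw [h]
    exact ((isAffineOpen_top X).basicOpen a).isCompact.union ((isAffineOpen_top X).basicOpen b).isCompact
  haveI : CompactSpace U.toScheme := isCompact_iff_compactSpace.1 hc
  infer_instance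

variable {R : Type u} [CommRing R]

instance qc_Uline (ϖ : R) : QuasiCompact (Uline ϖ).ι := quasiCompact_ι (X := (Line R).left) rfl

instance qc_Ust (π : R) : QuasiCompact (Ust π).ι := quasiCompact_ι (X := (STSch R π).left) rfl

theorem flatGood_line [IsDomain R] {ϖ : R} (hϖ : ϖ ≠ 0) : FlatGood (Uline ϖ) := by
  intro Y y hy hY
  exact isIso_line hϖ y

theorem flatGood_st [IsDomain R] {π : R} (hπ : π ≠ 0) : FlatGood (Ust π) := by
  intro Y y hy hY
  exact isIso_st hπ y

theorem isAlgClosed_residue (F : Type u) [Field F] [IsAlgClosed F] :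
    IsAlgClosed (IsLocalRing.ResidueField F⟦X⟧) :=
  IsAlgClosed.of_ringEquiv F _ (PowerSeries.residueFieldOfPowerSeries (k := F)).symm

end opens

section theta

variable {k : Type u} [Field k] [IsAlgClosed k] {R : Type u} [CommRing R] [IsDomain R]
  [IsDiscreteValuationRing R] [Algebra k R] {G : Over (Spec (CommRingCat.of k))} [GrpObj G]
  {X : Over (Spec (CommRingCat.of k))} {aX : AlgGrp.Action G X}

theorem exists_line (hG : Red.IsReductiveOver k G) {ϖ : R} (hϖ : Irreducible ϖ)
    (Φ : sub (ThetaS.overS (Spec.map (CommRingCat.ofHom (algebraMap k R)))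
      (AlgSt.QuotSt Scheme.fppfPrecoverage (Gm R) (lineAction R)))
      (InU Scheme.fppfPrecoverage (lineAction R) (Uline ϖ)) ⥤ᵇ AlgSt.QuotSt Scheme.fppfPrecoverage G aX) :
    Nonempty (Sec Φ (vObj (K := Scheme.fppfPrecoverage) (Spec.map (CommRingCat.ofHom (algebraMap k R)))
      (stable_line ϖ) (lp (Polynomial.X : (OO R)[X])))) := by
  obtain ⟨haff, hsm, hconn, -⟩ := id hG
  obtain ⟨A, _, _, e, _⟩ := exists_hopf k G
  have hG' : Red.IsReductiveOver k (CoactBr.sp k A) :=
    Groth.Agent.Sga3B.RG.BrRed2.isReductiveOver_of_iso e hG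
  haveI : IsMonHom e.inv := inferInstance
  haveI : IsAffineHom G.hom := inferInstance
  letI : Algebra k (OO R) := ((algebraMap R (OO R)).comp (algebraMap k R)).toAlgebra
  haveI : IsScalarTower k R (OO R) := IsScalarTower.of_algebraMap_eq' rfl
  haveI : IsScalarTower k (OO R) (FF R) := IsScalarTower.of_algebraMap_eq fun x => by
    rw [IsScalarTower.algebraMap_apply k R (FF R), IsScalarTower.algebraMap_apply k R (OO R),
      ← IsScalarTower.algebraMap_apply R (OO R) (FF R)]
  haveI := isLocalization hϖ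
  haveI : Infinite (FF R) := IsAlgClosed.instInfinite
  have hu : IsUnit (algebraMap R (FF R) ϖ) :=
    IsUnit.mk0 _ fun h => hϖ.ne_zero (injective_FF R (h.trans (map_zero _).symm))
  have hρ : (lp (R := R) (1 : OO R)).left ⁻¹ᵁ Uline ϖ = ⊤ := top_line isCoprime_one_left
  have hs : (lp (R := R) (PowerSeries.X : (FF R)⟦X⟧)).left ⁻¹ᵁ Uline ϖ = ⊤ := by
    refine top_line ?_
    have h1 : IsUnit (algebraMap R (FF R)⟦X⟧ ϖ) := by
      rw [IsScalarTower.algebraMap_apply R (FF R) (FF R)⟦X⟧]
      exact hu.map _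
    obtain ⟨w, hw⟩ := h1
    exact ⟨0, ((w⁻¹ : ((FF R)⟦X⟧)ˣ) : (FF R)⟦X⟧), by rw [← hw, Units.inv_mul, zero_mul, zero_add]⟩
  obtain ⟨ρ⟩ := exists_sec_hens Φ (cObj (K := Scheme.fppfPrecoverage)
    (Spec.map (CommRingCat.ofHom (algebraMap k R))) (stable_line ϖ) (lp (1 : OO R)) hρ) (B := OO R) (Iso.refl _)
  haveI := isAlgClosed_residue (FF R)
  obtain ⟨s⟩ := exists_sec_hens Φ (cObj (K := Scheme.fppfPrecoverage)
    (Spec.map (CommRingCat.ofHom (algebraMap k R))) (stable_line ϖ) (lp (PowerSeries.X : (FF R)⟦X⟧)) hs)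
    (B := (FF R)⟦X⟧) (Iso.refl _)
  exact exists_vsec_line (K := FractionRing (FF R)⟦X⟧) e (Subtype.val_injective) ρ s fun g => by
    obtain ⟨b, a, lam, h1, h2⟩ := RedCI.hCI hG' (OO R) (fun c => by
      rw [IsScalarTower.algebraMap_apply k R (FF R)]
      exact mem_OO R _) g
    refine ⟨b, a, lam, h1, fun a₀ => ?_⟩
    obtain ⟨p, hp, h, hh, e⟩ := h2 a₀
    exact ⟨p, hp, h, fun f => ⟨⟨_, hh f⟩, rfl⟩, e⟩

theorem liftsUniquely_line [IsAffine X.left] (hG : Red.IsReductiveOver k G) {ϖ : R} (hϖ : Irreducible ϖ) :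
    LiftSq.LiftsUniquely (thetaIncl Scheme.fppfPrecoverage R ϖ
      (Spec.map (CommRingCat.ofHom (algebraMap k R)))) (toSelf (AlgSt.QuotSt Scheme.fppfPrecoverage G aX)) := by
  obtain ⟨haff, hsm, hconn, -⟩ := id hG
  have := liftsUniquely_of_sec (Spec.map (CommRingCat.ofHom (algebraMap k R))) (stable_line ϖ) (aX := aX)
    (flatGood_line hϖ.ne_zero) fun Φ => by
      obtain ⟨h1, h2⟩ := flat_line (flat_surj_jj (R := R) (B := OO R) (isLocalHom_toO R))
      exact ⟨_, lp (Polynomial.X : (OO R)[X]), h1, h2,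
        inferInstanceAs (IsAffine (Spec (CommRingCat.of (OO R)[X]))), exists_line hG hϖ Φ⟩
  rw [← missesOrigin_eq Scheme.fppfPrecoverage ϖ] at this
  exact this

end theta

end K686.ThMain
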