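import Groth.Agent.ThetaS.K686.SecGlue
import Groth.Agent.ThetaS.K686.SecLine
import Groth.Agent.ThetaS.K686.ThRings

/-!
# The section over the punctured node over a discrete valuation ring

`exists_vsec_st`: for a functor `Φ : ST_R ∖ 0 ⟶ [X/G]` and a decomposition `g = h₁ λ(π) h₂` for all `g`
in `G(Frac C)`, `C` a discrete valuation ring over `R` with uniformizer `π` over which the torsors have
sections, the torsor has a section over the complement of the node in `Spec C[s, t]/(st − π)`.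
-/

set_option autoImplicit false
set_option linter.dupNamespace false
set_option linter.style.haveILetI false
set_option backward.isDefEq.respectTransparency false
set_option backward.isDefEq.respectTransparency.types false

universe u

open CategoryTheory CategoryTheory.Limits MonoidalCategory CartesianMonoidalCategory MonObj GrpObj
  AlgebraicGeometry TopologicalSpace Opposite WithConv
open FibCat K943.FibBase K943.CoverExt K943.QuotAtlas K943.QuotCover K943.LocPair K943.QuotOpen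
  K943.QuotTriv K943.SelfLift K686.Sect K686.SecObj K686.SecRing K686.SecLine K686.SecGlue
  K686.ThRings K942.Coord
open Groth.Agent.Books.DynBasic
open scoped TensorProduct Polynomial LaurentPolynomial

namespace K686.StCore

open ThetaS

/-- The fraction field of a discrete valuation ring is obtained by inverting a uniformizer. -/
theorem isLocalization_away {C : Type u} [CommRing C] [IsDomain C] [IsDiscreteValuationRing C] {π : C}
    (hπ : Irreducible π) (K : Type u) [Field K] [Algebra C K] [IsFractionRing C K] :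
    IsLocalization.Away π K := by
  have hinj : Function.Injective (algebraMap C K) := IsFractionRing.injective C K
  have h0 : algebraMap C K π ≠ 0 := fun h => hπ.ne_zero (hinj (h.trans (map_zero _).symm))
  refine ⟨?_, ?_, ?_⟩
  · rintro ⟨_, n, rfl⟩
    change IsUnit (algebraMap C K (π ^ n))
    rw [map_pow]
    exact (IsUnit.mk0 _ h0).pow n
  · intro y
    obtain ⟨a, b, hb, rfl⟩ := IsFractionRing.div_surjective (A := C) y
    obtain ⟨n, u, rfl⟩ := IsDiscreteValuationRing.eq_unit_mul_pow_irreducible (nonZeroDivisors.ne_zero hb) hπ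
    have hu : algebraMap C K (u : C) ≠ 0 := (u.isUnit.map _).ne_zero
    have hinv : algebraMap C K ((u⁻¹ : Cˣ) : C) = (algebraMap C K (u : C))⁻¹ := by
      apply eq_inv_of_mul_eq_one_left
      rw [← map_mul, Units.inv_mul, map_one]
    refine ⟨⟨a * (u⁻¹ : Cˣ), ⟨_, n, rfl⟩⟩, ?_⟩
    change algebraMap C K a / algebraMap C K ((u : C) * π ^ n) * algebraMap C K (π ^ n) =
      algebraMap C K (a * ((u⁻¹ : Cˣ) : C))
    rw [map_mul, map_mul, map_pow, hinv]
    field_simp
  · intro _ _ hxy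
    exact ⟨1, by rw [hinj hxy]⟩

section rings

variable (R : Type u) [CommRing R] (C : Type u) [CommRing C] [Algebra R C] (π : R)

/-- The ring of the node over `C`. -/
abbrev W : Type u := STRing C (algebraMap R C π)

/-- `s` -/
noncomputable abbrev sW : W R C π := sFn C (algebraMap R C π)

/-- `t` -/
noncomputable abbrev tW : W R C π := tFn C (algebraMap R C π)

theorem hst : sW R C π * tW R C π = algebraMap R (W R C π) π := by
  rw [IsScalarTower.algebraMap_apply R C (W R C π)]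
  exact sFn_mul_tFn C _

/-- The chart `D(s)`. -/
abbrev Ws : Type u := Localization.Away (sW R C π)

/-- The chart `D(t)`. -/
abbrev Wt : Type u := Localization.Away (tW R C π)

/-- The chart `D(st)`. -/
abbrev Wst : Type u := Localization.Away (algebraMap (W R C π) (Ws R C π) (tW R C π))

/-- `W → W[1/s]` -/
noncomputable def f1 : W R C π →ₐ[R] Ws R C π := IsScalarTower.toAlgHom R (W R C π) (Ws R C π)

/-- `W → W[1/t]` -/
noncomputable def f2 : W R C π →ₐ[R] Wt R C π := IsScalarTower.toAlgHom R (W R C π) (Wt R C π)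

/-- `W[1/s] → W[1/st]` -/
noncomputable def g1 : Ws R C π →ₐ[R] Wst R C π := IsScalarTower.toAlgHom R (Ws R C π) (Wst R C π)

theorem isUnit_s : IsUnit (f1 R C π (sW R C π)) :=
  IsLocalization.Away.algebraMap_isUnit (S := Ws R C π) (sW R C π)

theorem isUnit_t : IsUnit (f2 R C π (tW R C π)) :=
  IsLocalization.Away.algebraMap_isUnit (S := Wt R C π) (tW R C π)

theorem isUnit_t' : IsUnit (g1 R C π (f1 R C π (tW R C π))) :=
  IsLocalization.Away.algebraMap_isUnit (S := Wst R C π) (algebraMap (W R C π) (Ws R C π) (tW R C π))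

theorem exists_g2 : ∃ g : Wt R C π →ₐ[R] Wst R C π, g.comp (f2 R C π) = (g1 R C π).comp (f1 R C π) :=
  exists_away (tW R C π) _ (isUnit_t' R C π)

/-- `W[1/t] → W[1/st]` -/
noncomputable def g2 : Wt R C π →ₐ[R] Wst R C π := (exists_g2 R C π).choose

theorem g2_f2 : (g2 R C π).comp (f2 R C π) = (g1 R C π).comp (f1 R C π) := (exists_g2 R C π).choose_spec

theorem loc_f1 : Loc (f1 R C π).toRingHom (sW R C π) :=
  Loc.of_isLocalization (B₁ := Ws R C π) (sW R C π)

theorem loc_f2 : Loc (f2 R C π).toRingHom (tW R C π) :=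
  Loc.of_isLocalization (B₁ := Wt R C π) (tW R C π)

theorem loc_g1 : Loc (g1 R C π).toRingHom (f1 R C π (tW R C π)) :=
  Loc.of_isLocalization (B₁ := Wst R C π) (algebraMap (W R C π) (Ws R C π) (tW R C π))

/-- `C → W` -/
noncomputable def cW : C →ₐ[R] W R C π := IsScalarTower.toAlgHom R C (W R C π)

theorem cW_π : cW R C π (algebraMap R C π) = sW R C π * tW R C π := by
  rw [hst, AlgHom.commutes]

/-- `Frac C → W[1/st]` -/
theorem exists_kW (K : Type u) [Field K] [Algebra C K] [Algebra R K] [IsScalarTower R C K]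
    [IsLocalization.Away (algebraMap R C π) K] :
    ∃ κ : K →ₐ[R] Wst R C π, κ.comp (IsScalarTower.toAlgHom R C K) =
      ((g1 R C π).comp (f1 R C π)).comp (cW R C π) := by
  refine exists_away (algebraMap R C π) _ ?_
  rw [AlgHom.comp_apply, cW_π, map_mul]
  exact ((isUnit_s R C π).map (g1 R C π)).mul (isUnit_t' R C π)

end rings

section main

variable {k : Type u} [CommRing k] {R : Type u} [CommRing R] [Algebra k R]
  {C : Type u} [CommRing C] [Algebra R C] [Algebra k C] [IsScalarTower k R C]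
  {K : Type u} [Field K] [Algebra C K] [Algebra R K] [IsScalarTower R C K] [Algebra k K]
  [IsScalarTower k R K] [IsScalarTower k C K]
  {A : Type u} [CommRing A] [HopfAlgebra k A] {G : Over (Spec (CommRingCat.of k))} [GrpObj G]
  (ε : G ≅ CoactBr.sp k A) [IsMonHom ε.inv]
  {X : Over (Spec (CommRingCat.of k))} {aX : AlgGrp.Action G X}
  {Kt Kt' : Precoverage Scheme.{u}} [Kt.HasIsos]
  {W Ws Wt Wst : Type u} [CommRing W] [Algebra R W] [CommRing Ws] [Algebra R Ws] [Algebra k Ws]
  [IsScalarTower k R Ws] [CommRing Wt] [Algebra R Wt] [Algebra k Wt] [IsScalarTower k R Wt]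
  [CommRing Wst] [Algebra R Wst] [Algebra k Wst] [IsScalarTower k R Wst]

include ε in
theorem exists_vsec_abs {π : R} {s t : W} (hst : s * t = algebraMap R W π) (cW : C →ₐ[R] W)
    {f1 : W →ₐ[R] Ws} {f2 : W →ₐ[R] Wt} {g1 : Ws →ₐ[R] Wst} {g2 : Wt →ₐ[R] Wst}
    (g2_f2 : g2.comp f2 = g1.comp f1) (κ : K →ₐ[R] Wst)
    (hκ : κ.comp (IsScalarTower.toAlgHom R C K) = (g1.comp f1).comp cW)
    (isUnit_s : IsUnit (f1 s)) (isUnit_t : IsUnit (f2 t))
    (loc_f1 : Loc f1.toRingHom s) (loc_f2 : Loc f2.toRingHom t) (loc_g1 : Loc g1.toRingHom (f1 t))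
    {Φ : sub (ThetaS.overS (Spec.map (CommRingCat.ofHom (algebraMap k R)))
      (AlgSt.QuotSt Kt (Gm R) (stAction R π))) (InU Kt (stAction R π) (Ust π)) ⥤ᵇ
        AlgSt.QuotSt Kt' G aX}
    {ha : (1 : C) * algebraMap R C π = algebraMap R C π} {hb : algebraMap R C π * (1 : C) = algebraMap R C π}
    {hs : (np (1 : C) (algebraMap R C π) ha).left ⁻¹ᵁ Ust π = ⊤}
    {ht : (np (algebraMap R C π) (1 : C) hb).left ⁻¹ᵁ Ust π = ⊤}
    (σs : RSec _ (stable_st π) Φ (np (1 : C) (algebraMap R C π) ha) hs)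
    (σt : RSec _ (stable_st π) Φ (np (algebraMap R C π) (1 : C) hb) ht)
    (u : Kˣ) (hu : (u : K) = algebraMap C K (algebraMap R C π))
    (hC : ∀ g : WithConv (A →ₐ[k] K), ∃ (a b : WithConv (A →ₐ[k] C)) (lam : A →ₐc[k] k[T;T⁻¹]),
      g = mapPt (IsScalarTower.toAlgHom k C K) a * lamU lam u * mapPt (IsScalarTower.toAlgHom k C K) b) :
    Nonempty (Sec Φ (vObj (K := Kt) (Spec.map (CommRingCat.ofHom (algebraMap k R))) (stable_st π)
      (np s t hst))) := by
  let kR : Spec (CommRingCat.of R) ⟶ Spec (CommRingCat.of k) := Spec.map (CommRingCat.ofHom (algebraMap k R))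
  let jK : C →ₐ[R] K := IsScalarTower.toAlgHom R C K
  have hK : (u : K) * 1 = algebraMap R K π := by
    rw [_root_.mul_one, hu, ← IsScalarTower.algebraMap_apply]
  have hKU : (np (u : K) (1 : K) hK).left ⁻¹ᵁ Ust π = ⊤ := top_st _ isCoprime_one_right
  have t1 : Tr (aY := stAction R π) jK u (np (1 : C) (algebraMap R C π) ha) (np (u : K) (1 : K) hK) :=
    tr_st (by rw [map_one, _root_.mul_one]) (by
      change ((u⁻¹ : Kˣ) : K) * algebraMap C K (algebraMap R C π) = 1
      rw [← hu, Units.inv_mul])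
  have t2 : Tr (aY := stAction R π) jK 1 (np (algebraMap R C π) (1 : C) hb) (np (u : K) (1 : K) hK) :=
    tr_st (by
      rw [Units.val_one, _root_.one_mul, hu]; rfl) (by rw [inv_one, Units.val_one, _root_.one_mul, map_one])
  obtain ⟨g, hg⟩ := exists_ga ε (rs (hy' := hKU) t1 σs) (rs t2 σt)
  obtain ⟨h₁, h₂, lam, rfl⟩ := hC g
  have cW_π : cW (algebraMap R C π) = s * t := by rw [hst, AlgHom.commutes]
  -- units
  let us : Wsˣ := isUnit_s.unit
  let ut : Wtˣ := isUnit_t.unit
  let vs : Wstˣ := Units.map (g1 : Ws →* Wst) us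
  let vt : Wstˣ := Units.map (g2 : Wt →* Wst) ut
  have hvt : (vt : Wst) = g1 (f1 t) := by
    change g2 (f2 t) = _
    rw [← AlgHom.comp_apply, g2_f2, AlgHom.comp_apply]
  have hvu : Units.map (κ : K →* Wst) u = vt * vs := by
    apply Units.ext
    change κ (u : K) = vt * vs
    rw [hu, hvt]
    change (κ.comp (IsScalarTower.toAlgHom R C K)) (algebraMap R C π) = _
    rw [hκ, AlgHom.comp_apply, cW_π, map_mul, mul_comm]
    rfl
  -- points
  let c₁ : C →ₐ[R] Ws := f1.comp cW
  let c₂ : C →ₐ[R] Wt := f2.comp cW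
  have p₁ : (us : Ws) * f1 t = algebraMap R Ws π := by
    change f1 s * _ = _
    rw [← map_mul, hst, AlgHom.commutes]
  have p₂ : f2 s * (ut : Wt) = algebraMap R Wt π := by
    change _ * f2 t = _
    rw [← map_mul, hst, AlgHom.commutes]
  have p₃ : (vs : Wst) * (vt : Wst) = algebraMap R Wst π := by
    rw [hvt]
    change g1 (us : Ws) * _ = _
    rw [← map_mul, p₁, AlgHom.commutes]
  have hU₁ : (np (us : Ws) _ p₁).left ⁻¹ᵁ Ust π = ⊤ :=
    top_st _ ⟨((us⁻¹ : Wsˣ) : Ws), 0, by rw [Units.inv_mul, zero_mul, add_zero]⟩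
  have hU₂ : (np _ (ut : Wt) p₂).left ⁻¹ᵁ Ust π = ⊤ :=
    top_st _ ⟨0, ((ut⁻¹ : Wtˣ) : Wt), by rw [Units.inv_mul, zero_mul, zero_add]⟩
  have hU₃ : (np (vs : Wst) (vt : Wst) p₃).left ⁻¹ᵁ Ust π = ⊤ :=
    top_st _ ⟨0, ((vt⁻¹ : Wstˣ) : Wst), by rw [Units.inv_mul, zero_mul, zero_add]⟩
  have r₁ : Tr (aY := stAction R π) c₁ us (np (1 : C) (algebraMap R C π) ha) (np (us : Ws) _ p₁) :=
    tr_st (by rw [map_one, _root_.mul_one]) (by
      change ((us⁻¹ : Wsˣ) : Ws) * f1 (cW (algebraMap R C π)) = _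
      rw [cW_π, map_mul, ← _root_.mul_assoc]
      change (((us⁻¹ : Wsˣ) : Ws) * us) * _ = _
      rw [Units.inv_mul, _root_.one_mul])
  have r₂ : Tr (aY := stAction R π) c₂ ut⁻¹ (np (algebraMap R C π) (1 : C) hb) (np _ (ut : Wt) p₂) :=
    tr_st (by
      change ((ut⁻¹ : Wtˣ) : Wt) * f2 (cW (algebraMap R C π)) = _
      rw [cW_π, mul_comm s, map_mul, ← _root_.mul_assoc]
      change (((ut⁻¹ : Wtˣ) : Wt) * ut) * _ = _
      rw [Units.inv_mul, _root_.one_mul]) (by rw [_root_.inv_inv, map_one, _root_.mul_one])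
  have q₁ : Tr (aY := stAction R π) g1 1 (np (us : Ws) _ p₁)
      (np (vs : Wst) (vt : Wst) p₃) :=
    tr_st (by rw [Units.val_one, _root_.one_mul]; rfl) (by
      rw [inv_one, Units.val_one, _root_.one_mul, hvt])
  have q₂ : Tr (aY := stAction R π) g2 1 (np _ (ut : Wt) p₂)
      (np (vs : Wst) (vt : Wst) p₃) :=
    tr_st (by
      rw [Units.val_one, _root_.one_mul, ← AlgHom.comp_apply, g2_f2]; rfl) (by
      rw [inv_one, Units.val_one, _root_.one_mul]; rfl)
  let ρs : RSec kR (stable_st π) Φ (np (us : Ws) _ p₁) hU₁ := rs r₁ σs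
  let ρt : RSec kR (stable_st π) Φ (np _ (ut : Wt) p₂) hU₂ := rs r₂ σt
  -- comparison
  have tκ : Tr (aY := stAction R π) κ vt⁻¹ (np (u : K) (1 : K) hK) (np (vs : Wst) (vt : Wst) p₃) :=
    tr_st (by
      have : κ (u : K) = (vt * vs : Wstˣ) := congrArg Units.val hvu
      rw [this, ← Units.val_mul, inv_mul_cancel_left]) (by rw [_root_.inv_inv, map_one, _root_.mul_one])
  have hcomp : (g2.comp c₂) = κ.comp jK := by
    rw [hκ, ← AlgHom.comp_assoc, g2_f2]
  have e1 : rs (hy' := hU₃) tκ (rs (hy' := hKU) t2 σt) = rs q₂ ρt := by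
    rw [rs_rs, rs_rs]
    refine rs_congr _ _ hcomp.symm ?_ _
    rw [map_one, _root_.mul_one, _root_.one_mul, map_inv]
  have e2 : rs (hy' := hU₃) tκ (rs (hy' := hKU) t1 σs) = rs q₁ ρs := by
    rw [rs_rs, rs_rs]
    refine rs_congr _ _ hκ ?_ _
    rw [hvu, inv_mul_cancel_left, _root_.one_mul]
  have e3 := congrArg (rs (hy' := hU₃) tκ) hg
  rw [rs_ga, e1, e2, map_mul, map_mul, mapPt_lamU] at e3
  have hlu : Units.map ((κ.restrictScalars k : K →ₐ[k] Wst) : K →* Wst) u = vt * vs := hvu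
  rw [hlu, map_mul (lamU lam)] at e3
  -- the two sections
  let s₁ : RSec kR (stable_st π) Φ (np (us : Ws) _ p₁) hU₁ :=
    ga ε (lamU lam us * mapPt (c₁.restrictScalars k) h₂) ρs
  let s₂ : RSec kR (stable_st π) Φ (np _ (ut : Wt) p₂) hU₂ :=
    ga ε ((lamU lam ut)⁻¹ * (mapPt (c₂.restrictScalars k) h₁)⁻¹) ρt
  have i₁ : mapPt (κ.restrictScalars k) (mapPt (IsScalarTower.toAlgHom k C K) h₁) =
      mapPt (g2.restrictScalars k) (mapPt (c₂.restrictScalars k) h₁) := by
    apply WithConv.ofConv_injective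
    apply AlgHom.ext
    intro f
    exact (AlgHom.congr_fun hcomp (h₁.ofConv f)).symm
  have i₂ : mapPt (κ.restrictScalars k) (mapPt (IsScalarTower.toAlgHom k C K) h₂) =
      mapPt (g1.restrictScalars k) (mapPt (c₁.restrictScalars k) h₂) := by
    apply WithConv.ofConv_injective
    apply AlgHom.ext
    intro f
    exact AlgHom.congr_fun hκ (h₂.ofConv f)
  have l₁ : mapPt (g1.restrictScalars k) (lamU lam us) = lamU lam vs := by
    rw [mapPt_lamU]; rfl
  have l₂ : mapPt (g2.restrictScalars k) (lamU lam ut) = lamU lam vt := by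
    rw [mapPt_lamU]; rfl
  have e4 : rs (hy' := hU₃) q₁ s₁ = rs q₂ s₂ := by
    rw [rs_ga, rs_ga, e3, ← ga_mul]
    congr 1
    rw [map_mul, map_mul, map_inv, map_inv, l₁, l₂, i₁, i₂]
    group
  exact exists_vsec kR (stable_st π) (Φ := Φ) (np s t hst)
    (fun y => mem_st _ _ hst y) (g2_f2).symm (loc_f1) (loc_f2)
    (loc_g1) (hy₁ := hU₁) (tr_st (by rw [Units.val_one, _root_.one_mul]; rfl)
      (by rw [inv_one, Units.val_one, _root_.one_mul])) (hy₂ := hU₂)
    (tr_st (by rw [Units.val_one, _root_.one_mul])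
      (by rw [inv_one, Units.val_one, _root_.one_mul]; rfl)) (hy₃ := hU₃) q₁ q₂ s₁ s₂ e4

include ε in
theorem exists_vsec_st {π : R} [IsLocalization.Away (algebraMap R C π) K]
    {Φ : sub (ThetaS.overS (Spec.map (CommRingCat.ofHom (algebraMap k R)))
      (AlgSt.QuotSt Kt (Gm R) (stAction R π))) (InU Kt (stAction R π) (Ust π)) ⥤ᵇ
        AlgSt.QuotSt Kt' G aX}
    {ha : (1 : C) * algebraMap R C π = algebraMap R C π} {hb : algebraMap R C π * (1 : C) = algebraMap R C π}
    {hs : (np (1 : C) (algebraMap R C π) ha).left ⁻¹ᵁ Ust π = ⊤}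
    {ht : (np (algebraMap R C π) (1 : C) hb).left ⁻¹ᵁ Ust π = ⊤}
    (σs : RSec _ (stable_st π) Φ (np (1 : C) (algebraMap R C π) ha) hs)
    (σt : RSec _ (stable_st π) Φ (np (algebraMap R C π) (1 : C) hb) ht)
    (u : Kˣ) (hu : (u : K) = algebraMap C K (algebraMap R C π))
    (hC : ∀ g : WithConv (A →ₐ[k] K), ∃ (a b : WithConv (A →ₐ[k] C)) (lam : A →ₐc[k] k[T;T⁻¹]),
      g = mapPt (IsScalarTower.toAlgHom k C K) a * lamU lam u * mapPt (IsScalarTower.toAlgHom k C K) b) :
    Nonempty (Sec Φ (vObj (K := Kt) (Spec.map (CommRingCat.ofHom (algebraMap k R))) (stable_st π)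
      (np (sW R C π) (tW R C π) (hst R C π)))) := by
  obtain ⟨κ, hκ⟩ := exists_kW R C π K
  exact exists_vsec_abs ε (hst R C π) (cW R C π) (g2_f2 R C π) κ hκ (isUnit_s R C π) (isUnit_t R C π)
    (loc_f1 R C π) (loc_f2 R C π) (loc_g1 R C π) σs σt u hu hC

end main

end K686.StCore
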