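import Groth.Agent.ThetaS.K686.ThMain
import Groth.Agent.ThetaS.K686.StCore
import Groth.Agent.ThetaS.K749.CplDvr
import Groth.Agent.ThetaS.K749.STMain

/-!
# `[X/G]` is S-complete for connected reductive `G` and affine `X`
-/

set_option autoImplicit false
set_option linter.dupNamespace false
set_option linter.style.haveILetI false
set_option backward.isDefEq.respectTransparency false
set_option backward.isDefEq.respectTransparency.types false

universe u

open CategoryTheory CategoryTheory.Limits MonoidalCategory CartesianMonoidalCategory MonObj GrpObj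
  AlgebraicGeometry TopologicalSpace Opposite WithConv
open FibCat K943.FibBase K943.CoverExt K943.QuotAtlas K943.QuotCover K943.LocPair K943.QuotOpen
  K943.QuotTriv K943.SelfLift K686.Sect K686.SecObj K686.SecRing K686.SecLine K686.SecLift K686.SecGlue
  K686.ThRings K686.StCore K942.Coord K686.ValRing K686.ThMain
open Groth.Agent.Books.AffBridge Groth.Agent.Books.DynBasic
open scoped TensorProduct Polynomial PowerSeries LaurentPolynomial

namespace K686.StMain

open ThetaS

variable {k : Type u} [Field k] [IsAlgClosed k] {R : Type u} [CommRing R] [IsDomain R]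
  [IsDiscreteValuationRing R] [Algebra k R] {G : Over (Spec (CommRingCat.of k))} [GrpObj G]
  {X : Over (Spec (CommRingCat.of k))} {aX : AlgGrp.Action G X}

omit [IsDomain R] [IsDiscreteValuationRing R] in
theorem exists_st_abs (hG : Red.IsReductiveOver k G) {π : R} {C : Type u} [CommRing C] [IsDomain C]
    [IsDiscreteValuationRing C] [Algebra R C] [Algebra k C] [IsScalarTower k R C]
    {K : Type u} [Field K] [Algebra C K] [IsFractionRing C K] [Algebra R K] [IsScalarTower R C K]
    [Algebra k K] [IsScalarTower k R K] [IsScalarTower k C K]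
    (hc : IsAdicComplete (IsLocalRing.maximalIdeal C) C)
    (hcl : IsAlgClosed (IsLocalRing.ResidueField C)) (hπC : Irreducible (algebraMap R C π))
    (Φ : sub (ThetaS.overS (Spec.map (CommRingCat.ofHom (algebraMap k R)))
      (AlgSt.QuotSt Scheme.fppfPrecoverage (Gm R) (stAction R π)))
      (InU Scheme.fppfPrecoverage (stAction R π) (Ust π)) ⥤ᵇ AlgSt.QuotSt Scheme.fppfPrecoverage G aX) :
    Nonempty (Sec Φ (vObj (K := Scheme.fppfPrecoverage) (Spec.map (CommRingCat.ofHom (algebraMap k R)))
      (stable_st π) (np (sW R C π) (tW R C π) (hst R C π)))) := by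
  obtain ⟨haff, hsm, hconn, -⟩ := id hG
  obtain ⟨A, _, _, e, _⟩ := exists_hopf k G
  have hG' : Red.IsReductiveOver k (CoactBr.sp k A) :=
    Groth.Agent.Sga3B.RG.BrRed2.isReductiveOver_of_iso e hG
  haveI : IsMonHom e.inv := inferInstance
  haveI : IsAffineHom G.hom := inferInstance
  haveI : HenselianLocalRing C := K749.STMain.henselianLocalRing C
  haveI : IsLocalization.Away (algebraMap R C π) K := isLocalization_away hπC _
  have ha : (1 : C) * algebraMap R C π = algebraMap R C π := _root_.one_mul _
  have hb : algebraMap R C π * (1 : C) = algebraMap R C π := _root_.mul_one _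
  have hs : (np (1 : C) (algebraMap R C π) ha).left ⁻¹ᵁ Ust π = ⊤ := top_st _ isCoprime_one_left
  have ht : (np (algebraMap R C π) (1 : C) hb).left ⁻¹ᵁ Ust π = ⊤ := top_st _ isCoprime_one_right
  obtain ⟨σs⟩ := exists_sec_hens Φ (cObj (K := Scheme.fppfPrecoverage)
    (Spec.map (CommRingCat.ofHom (algebraMap k R))) (stable_st π) (np (1 : C) (algebraMap R C π) ha) hs)
    (B := C) (Iso.refl _)
  obtain ⟨σt⟩ := exists_sec_hens Φ (cObj (K := Scheme.fppfPrecoverage)
    (Spec.map (CommRingCat.ofHom (algebraMap k R))) (stable_st π) (np (algebraMap R C π) (1 : C) hb) ht)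
    (B := C) (Iso.refl _)
  have h0 : algebraMap C K (algebraMap R C π) ≠ 0 := fun h =>
    hπC.ne_zero ((IsFractionRing.injective C K) (h.trans (map_zero _).symm))
  exact exists_vsec_st (K := K) e σs σt (Units.mk0 _ h0) rfl fun g =>
    RedCI.cartan hG' (algebraMap R C π) hπC (Units.mk0 _ h0) rfl g

omit [IsDomain R] [IsDiscreteValuationRing R] in
theorem exists_st (hG : Red.IsReductiveOver k G) {π : R} {C : Type u} [CommRing C] [IsDomain C]
    [IsDiscreteValuationRing C] [Algebra R C] (hc : IsAdicComplete (IsLocalRing.maximalIdeal C) C)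
    (hcl : IsAlgClosed (IsLocalRing.ResidueField C)) (hπC : Irreducible (algebraMap R C π))
    (Φ : sub (ThetaS.overS (Spec.map (CommRingCat.ofHom (algebraMap k R)))
      (AlgSt.QuotSt Scheme.fppfPrecoverage (Gm R) (stAction R π)))
      (InU Scheme.fppfPrecoverage (stAction R π) (Ust π)) ⥤ᵇ AlgSt.QuotSt Scheme.fppfPrecoverage G aX) :
    Nonempty (Sec Φ (vObj (K := Scheme.fppfPrecoverage) (Spec.map (CommRingCat.ofHom (algebraMap k R)))
      (stable_st π) (np (sW R C π) (tW R C π) (hst R C π)))) := by
  letI a1 : Algebra k C := ((algebraMap R C).comp (algebraMap k R)).toAlgebra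
  haveI : IsScalarTower k R C := IsScalarTower.of_algebraMap_eq' rfl
  obtain ⟨K, i1, i2, i3⟩ : ∃ (K : Type u) (_ : Field K) (_ : Algebra C K), IsFractionRing C K :=
    ⟨FractionRing C, inferInstance, inferInstance, inferInstance⟩
  letI a2 : Algebra R K := ((algebraMap C K).comp (algebraMap R C)).toAlgebra
  haveI : IsScalarTower R C K := IsScalarTower.of_algebraMap_eq' rfl
  letI a3 : Algebra k K := ((algebraMap R K).comp (algebraMap k R)).toAlgebra
  haveI : IsScalarTower k R K := IsScalarTower.of_algebraMap_eq' rfl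
  haveI : IsScalarTower k C K := IsScalarTower.of_algebraMap_eq' rfl
  exact exists_st_abs (K := K) hG hc hcl hπC Φ

omit [IsDomain R] [IsDiscreteValuationRing R] in
theorem left_eq {C : Type u} [CommRing C] [Algebra R C] (π : R) :
    (np (sW R C π) (tW R C π) (hst R C π)).left = (K943.BcRing.rSt C π).left := by
  change Spec.map (CommRingCat.ofHom (stPt (sW R C π) (tW R C π) (hst R C π)).toRingHom) =
    Spec.map (CommRingCat.ofHom (K943.BcRing.cSt C π))
  rfl

omit [IsDomain R] [IsDiscreteValuationRing R] in
theorem flat_np {C : Type u} [CommRing C] [Algebra R C] [Module.FaithfullyFlat R C] (π : R) :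
    Flat (np (sW R C π) (tW R C π) (hst R C π)).left ∧
      Surjective (np (sW R C π) (tW R C π) (hst R C π)).left := by
  rw [left_eq]
  refine flat_st (π := π) ⟨?_, ⟨PrimeSpectrum.comap_surjective_of_faithfullyFlat⟩⟩
  rw [HasRingHomProperty.Spec_iff (P := @Flat)]
  exact (RingHom.flat_algebraMap_iff (R := R) (S := C)).2 inferInstance

theorem liftsUniquely_st [IsAffine X.left] (hG : Red.IsReductiveOver k G) {π : R} (hπ : Irreducible π) :
    LiftSq.LiftsUniquely (stIncl Scheme.fppfPrecoverage R π
      (Spec.map (CommRingCat.ofHom (algebraMap k R)))) (toSelf (AlgSt.QuotSt Scheme.fppfPrecoverage G aX)) := by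
  obtain ⟨haff, hsm, hconn, -⟩ := id hG
  obtain ⟨C, _, _, _, _, hff, hc, hcl, hπC⟩ := K749.CplDvr.exists_dvr hπ
  have := liftsUniquely_of_sec (Spec.map (CommRingCat.ofHom (algebraMap k R))) (stable_st π) (aX := aX)
    (flatGood_st hπ.ne_zero) fun Φ => by
      obtain ⟨h1, h2⟩ := flat_np (C := C) π
      exact ⟨_, np (sW R C π) (tW R C π) (hst R C π), h1, h2,
        inferInstanceAs (IsAffine (Spec (CommRingCat.of (STRing C (algebraMap R C π))))),
        exists_st hG hc hcl hπC Φ⟩
  rw [← missesNode_eq Scheme.fppfPrecoverage π] at this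
  exact this

end K686.StMain
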