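import Groth.Agent.ThetaS.K942.TorsGeom
import Mathlib.AlgebraicGeometry.QuasiAffine

/-!
# Affine hulls of affine schemes over an open part with all functions

`isIso_appTop_of_isPullback`: flat base change of `Γ(T) = Γ(V)`.  `exists_hull`: an affine scheme `P`
over an open `V ⊆ T` with `Γ(V) = Γ(T)` is the restriction of `Spec Γ(P)`.  `hull_props`: flatness,
surjectivity and finite presentation of the hull may be checked after a faithfully flat base change
where `P` becomes the restriction of a flat, surjective, finitely presented affine scheme.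
-/

set_option autoImplicit false
set_option linter.dupNamespace false
set_option linter.style.haveILetI false
set_option backward.isDefEq.respectTransparency false
set_option backward.isDefEq.respectTransparency.types false

universe u

open CategoryTheory CategoryTheory.Limits AlgebraicGeometry TopologicalSpace Opposite

namespace K686.AffHull

/-- Flat base change of an isomorphism on global functions. -/
theorem isIso_appTop_of_isPullback {X S T Y : Scheme.{u}} {g : Y ⟶ X} {iY : Y ⟶ T} {iX : X ⟶ S}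
    {f : T ⟶ S} (H : IsPullback g iY iX f) [Flat f] [IsAffine S] [IsAffine T] [CompactSpace X]
    [QuasiSeparatedSpace X] [hi : IsIso iX.appTop] : IsIso iY.appTop := by
  have hU : (⊤ : Y.Opens) = g ⁻¹ᵁ ⊤ ⊓ iY ⁻¹ᵁ ⊤ := by simp
  have h1 := isIso_pushoutSection_of_isQuasiSeparated_of_flat_right H (US := ⊤) (UT := ⊤) (UX := ⊤)
    (UY := ⊤) le_top le_top hU (isAffineOpen_top S) (isAffineOpen_top T) isCompact_univ
    (isQuasiSeparated_univ (α := X))
  have h2 := (isIso_pushoutSection_iff H le_top le_top hU).1 h1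
  have h3 : iX.appLE ⊤ ⊤ le_top = iX.appTop := by
    rw [Scheme.Hom.appLE]; simp
  have h4 : iY.appLE ⊤ ⊤ le_top = iY.appTop := by
    rw [Scheme.Hom.appLE]; simp
  have h5 : IsIso (iX.appLE ⊤ ⊤ le_top) := by rw [h3]; exact hi
  have h6 := h2.isIso_inr_of_isIso h5
  rw [← h4]
  exact h6


theorem isIso_of_appTop {X Y : Scheme.{u}} [IsAffine X] [IsAffine Y] (f : X ⟶ Y) [IsIso f.appTop] :
    IsIso f := by
  obtain ⟨g, hg⟩ := K942.Hartogs.exists_hom (X := Y) (Y := X) (inv f.appTop)
  refine ⟨g, ?_, ?_⟩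
  · apply ext_of_isAffine
    rw [Scheme.Hom.comp_appTop, hg, IsIso.inv_hom_id]; rfl
  · apply ext_of_isAffine
    rw [Scheme.Hom.comp_appTop, hg, IsIso.hom_inv_id]; rfl

/-- The affine hull. -/
theorem exists_hull {P V T : Scheme.{u}} (f : P ⟶ V) [IsAffineHom f] (i : V ⟶ T) [IsOpenImmersion i]
    [CompactSpace V] [IsAffine T] [IsIso i.appTop] :
    ∃ (P' : Scheme.{u}) (j : P ⟶ P') (f' : P' ⟶ T), IsAffine P' ∧ IsIso j.appTop ∧
      IsPullback j f f' i := by
  haveI : V.IsQuasiAffine := Scheme.IsQuasiAffine.of_isImmersion i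
  have h1 : IsPullback f P.toSpecΓ V.toSpecΓ (Spec.map f.appTop) :=
    Scheme.isPullback_toSpecΓ_toSpecΓ f
  let e : Spec Γ(V, ⊤) ≅ T := asIso (Spec.map i.appTop) ≪≫ T.isoSpec.symm
  have he : V.toSpecΓ ≫ e.hom = i := by
    change V.toSpecΓ ≫ Spec.map i.appTop ≫ T.isoSpec.inv = i
    rw [← Scheme.toSpecΓ_naturality_assoc, ← Scheme.isoSpec_hom, Iso.hom_inv_id, Category.comp_id]
  refine ⟨Spec Γ(P, ⊤), P.toSpecΓ, Spec.map f.appTop ≫ e.hom, inferInstance, ?_, ?_⟩
  · rw [Scheme.toSpecΓ_appTop]; infer_instance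
  · exact h1.flip.of_iso (Iso.refl _) (Iso.refl _) (Iso.refl _) e (by simp) (by simp) (by simp)
      (by simp [he])

/-- Properties of the hull checked after a faithfully flat base change. -/
theorem hull_props {P P' V T : Scheme.{u}} {j : P ⟶ P'} {f : P ⟶ V} {f' : P' ⟶ T} {i : V ⟶ T}
    (h : IsPullback j f f' i) [IsAffine P'] [IsAffine T] [CompactSpace P] [QuasiSeparatedSpace P]
    [IsIso j.appTop] {T₁ V₁ P₁ E : Scheme.{u}} {q : T₁ ⟶ T} [Flat q] [Surjective q] [IsAffine T₁]
    {i₁ : V₁ ⟶ T₁} {q' : V₁ ⟶ V} (hV : IsPullback q' i₁ i q) {r : P₁ ⟶ P} {f₁ : P₁ ⟶ V₁}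
    (hP : IsPullback r f₁ f q') {e : P₁ ⟶ E} {g : E ⟶ T₁} [IsAffine E] [IsIso e.appTop]
    (he : e ≫ g = f₁ ≫ i₁) [Flat g] [Surjective g] [LocallyOfFinitePresentation g] :
    Flat f' ∧ Surjective f' ∧ LocallyOfFinitePresentation f' := by
  -- the base change of the hull
  let P₂ := pullback f' q
  let q₂ : P₂ ⟶ P' := pullback.fst f' q
  let f₂ : P₂ ⟶ T₁ := pullback.snd f' q
  have h2 : IsPullback q₂ f₂ f' q := IsPullback.of_hasPullback f' q
  haveI : Flat q₂ := MorphismProperty.of_isPullback h2.flip inferInstance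
  haveI : Surjective q₂ := MorphismProperty.of_isPullback h2.flip inferInstance
  haveI : IsAffine P₂ := isAffine_of_isAffineHom f₂
  let j₁ : P₁ ⟶ P₂ := pullback.lift (r ≫ j) (f₁ ≫ i₁) (by
    rw [Category.assoc, h.w, ← Category.assoc, hP.w, Category.assoc, hV.w, Category.assoc])
  have hj1 : j₁ ≫ q₂ = r ≫ j := pullback.lift_fst _ _ _
  have hj2 : j₁ ≫ f₂ = f₁ ≫ i₁ := pullback.lift_snd _ _ _
  -- `P₁ = P ×_{P'} P₂`
  have h3 : IsPullback r (f₁ ≫ i₁) (f ≫ i) q := hP.paste_vert hV
  have h4 : IsPullback r j₁ j q₂ := by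
    refine IsPullback.of_bot (h₁₁ := r) (h₂₁ := q₂) (h₃₁ := q) (v₁₁ := j₁) (v₁₂ := j) (v₂₁ := f₂)
      (v₂₂ := f') ?_ hj1.symm h2
    rw [hj2, h.w]
    exact h3
  haveI : IsIso j₁.appTop := isIso_appTop_of_isPullback h4
  -- the comparison with `E`
  obtain ⟨c, hc⟩ := K942.Hartogs.exists_hom (X := P₂) (Y := E) (e.appTop ≫ inv j₁.appTop)
  have hcg : c ≫ g = f₂ := by
    apply ext_of_isAffine
    rw [← cancel_mono j₁.appTop, Scheme.Hom.comp_appTop, hc, Category.assoc, Category.assoc,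
      IsIso.inv_hom_id, Category.comp_id, ← Scheme.Hom.comp_appTop, he, ← hj2,
      Scheme.Hom.comp_appTop]
  haveI : IsIso c.appTop := by rw [hc]; infer_instance
  haveI : IsIso c := isIso_of_appTop c
  haveI : Flat f₂ := by rw [← hcg]; infer_instance
  haveI : Surjective f₂ := by rw [← hcg]; infer_instance
  haveI : LocallyOfFinitePresentation f₂ := by rw [← hcg]; infer_instance
  refine ⟨?_, ?_, ?_⟩
  · haveI : Flat (q₂ ≫ f') := by rw [h2.w]; infer_instance
    exact Groth.Agent.S1128.result q₂ f'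
  · haveI : Surjective (q₂ ≫ f') := by rw [h2.w]; infer_instance
    exact Surjective.of_comp q₂ f'
  · exact MorphismProperty.of_isPullback_of_descendsAlong
      (P := @LocallyOfFinitePresentation) (Q := @Surjective ⊓ @Flat ⊓ @QuasiCompact) h2.flip
      ⟨⟨inferInstance, inferInstance⟩, inferInstance⟩ inferInstance

end K686.AffHull
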