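import Groth.Agent.ThetaS.K686.AffHull
import Groth.Agent.NonAbH1.K554.Fpqc2

/-!
# Extension of `G`-torsors with a map to `X` along an open immersion preserving functions

`exists_ext`: an object of `[X/G]` over `V`, `V ⊆ T` open with `Γ(T) = Γ(V)`, `T` affine, extends to
`T` as soon as its torsor has a section over `V ×_T T₁` for some faithfully flat affine `T₁ ⟶ T`.
-/

set_option autoImplicit false
set_option linter.dupNamespace false
set_option linter.style.haveILetI false
set_option backward.isDefEq.respectTransparency false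
set_option backward.isDefEq.respectTransparency.types false

universe u

open CategoryTheory CategoryTheory.Limits MonoidalCategory CartesianMonoidalCategory MonObj GrpObj
  AlgebraicGeometry TopologicalSpace Opposite

namespace K686.ThExt

open AffHull K942.TorsGeom K943.QuotOpen

variable {S : Scheme.{u}}

theorem flat_snd (H W : Over S) [Flat H.hom] : Flat (snd H W).left := by
  have h := (AlgSt.isPullback_fst_snd H W).map (Over.forget S)
  have h' : IsPullback (fst H W).left (snd H W).left (toUnit H).left (toUnit W).left := h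
  have h'' : Flat (toUnit H).left := by
    have : (toUnit H).left = H.hom := by simp
    rw [this]; infer_instance
  exact MorphismProperty.of_isPullback h' h''

theorem surjective_snd (H W : Over S) [Surjective H.hom] : Surjective (snd H W).left := by
  have h := (AlgSt.isPullback_fst_snd H W).map (Over.forget S)
  have h' : IsPullback (fst H W).left (snd H W).left (toUnit H).left (toUnit W).left := h
  have h'' : Surjective (toUnit H).left := by
    have : (toUnit H).left = H.hom := by simp
    rw [this]; infer_instance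
  exact MorphismProperty.of_isPullback h' h''

theorem lfp_snd (H W : Over S) [LocallyOfFinitePresentation H.hom] :
    LocallyOfFinitePresentation (snd H W).left := by
  have h := (AlgSt.isPullback_fst_snd H W).map (Over.forget S)
  have h' : IsPullback (fst H W).left (snd H W).left (toUnit H).left (toUnit W).left := h
  have h'' : LocallyOfFinitePresentation (toUnit H).left := by
    have : (toUnit H).left = H.hom := by simp
    rw [this]; infer_instance
  exact MorphismProperty.of_isPullback h' h''

theorem surjective_grp (G : Over S) [GrpObj G] : Surjective G.hom := by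
  have h1 : (η[G] : 𝟙_ (Over S) ⟶ G).left ≫ G.hom = 𝟙 S := Over.w η[G]
  haveI : Surjective ((η[G] : 𝟙_ (Over S) ⟶ G).left ≫ G.hom) := by
    rw [h1]; exact ⟨fun x => ⟨x, rfl⟩⟩
  exact Surjective.of_comp (η[G] : 𝟙_ (Over S) ⟶ G).left G.hom

/-- Products with flat affine `S`-schemes. -/
theorem isIso_whisker (H : Over S) [IsAffineHom H.hom] [Flat H.hom] {W' W : Over S} (k : W' ⟶ W)
    [IsAffine W.left] [CompactSpace W'.left] [QuasiSeparatedSpace W'.left] [IsIso k.left.appTop] :
    IsIso (H ◁ k).left.appTop := by
  haveI := flat_snd H W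
  haveI := K750.QuotAff.isAffineHom_snd H W
  haveI : IsAffine (H ⊗ W).left := isAffine_of_isAffineHom (snd H W).left
  have h := (AlgSt.isPullback_whiskerLeft (G := H) k).map (Over.forget S)
  have h' : IsPullback (H ◁ k).left (snd H W').left (snd H W).left k.left := h
  exact isIso_appTop_of_isPullback h'.flip

/-- Maps to an affine scheme are determined on a scheme with the same functions. -/
theorem hom_ext_affine {W' W P : Over S} (k : W' ⟶ W) [IsIso k.left.appTop] [IsAffine P.left]
    (u v : W ⟶ P) (h : k ≫ u = k ≫ v) : u = v := by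
  apply Over.OverMorphism.ext
  apply ext_of_isAffine
  have h1 : k.left ≫ u.left = k.left ≫ v.left := congrArg CommaMorphism.left h
  rw [← cancel_mono k.left.appTop, ← Scheme.Hom.comp_appTop, ← Scheme.Hom.comp_appTop, h1]

/-- `FlatExt` for open immersions with the same functions. -/
theorem flatExt_of_isIso {V T : Over S} (i : V ⟶ T) [QuasiCompact i.left] [IsOpenImmersion i.left]
    [IsAffine T.left] [IsIso i.left.appTop] : FlatExt i := by
  intro Z' Z k p' p hk hp hZ
  have h : IsPullback k.left p'.left p.left i.left := hk.map (Over.forget S)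
  haveI : CompactSpace V.left := QuasiCompact.compactSpace_of_compactSpace i.left
  haveI : QuasiSeparatedSpace V.left := by
    haveI : V.left.IsSeparated := ⟨by
      rw [terminal.comp_from i.left |>.symm]; infer_instance⟩
    infer_instance
  exact isIso_appTop_of_isPullback h.flip

variable {G : Over S} [GrpObj G] {X : Over S} {aX : AlgGrp.Action G X}

/-- **Extension of torsors.** -/
theorem exists_ext [IsAffineHom G.hom] [Flat G.hom] [LocallyOfFinitePresentation G.hom]
    [IsAffineHom X.hom] (x : AlgSt.QuotObj Scheme.fppfPrecoverage G aX) {T : Over S}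
    (i : x.base ⟶ T) [IsOpenImmersion i.left] [QuasiCompact i.left] [IsAffine T.left]
    [IsIso i.left.appTop] {T₁ V₁ : Over S} {q : T₁ ⟶ T} {q' : V₁ ⟶ x.base} {i₁ : V₁ ⟶ T₁}
    (hV : IsPullback q' i₁ i q) [Flat q.left] [Surjective q.left] [IsAffine T₁.left]
    (σ : V₁ ⟶ x.P) (hσ : σ ≫ x.π = q') :
    ∃ (z : AlgSt.QuotObj Scheme.fppfPrecoverage G aX) (ζ : x ⟶ z),
      (AlgSt.QuotSt Scheme.fppfPrecoverage G aX).p.IsHomLift i ζ := by
  haveI haf : IsAffineHom x.π.left :=
    K750.QuotAff.isAffineHom_quotObj Scheme.fppfPrecoverage_le_fpqcPrecoverage x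
  haveI hVc : CompactSpace x.base.left := QuasiCompact.compactSpace_of_compactSpace i.left
  haveI hVs : x.base.left.IsSeparated := ⟨by
    rw [← terminal.comp_from i.left]; infer_instance⟩
  haveI hPc : CompactSpace x.P.left := QuasiCompact.compactSpace_of_compactSpace x.π.left
  haveI hPs : x.P.left.IsSeparated := ⟨by
    rw [← terminal.comp_from x.π.left]; infer_instance⟩
  -- the hull
  obtain ⟨P', j, f', hA, hj, hpb⟩ := exists_hull x.π.left i.left
  let Q : Over S := Over.mk (f' ≫ T.hom)
  let ϖ : Q ⟶ T := Over.homMk f'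
  let jj : x.P ⟶ Q := Over.homMk j (by
    change j ≫ f' ≫ T.hom = x.P.hom
    rw [← Category.assoc, hpb.w, Category.assoc, Over.w, Over.w])
  haveI : IsAffine Q.left := hA
  haveI : IsIso jj.left.appTop := hj
  have hQ : IsPullback jj x.π ϖ i := IsPullback.of_map (Over.forget S) (by
    apply Over.OverMorphism.ext; exact hpb.w) hpb
  -- its properties
  have hV' : IsPullback q'.left i₁.left i.left q.left := hV.map (Over.forget S)
  haveI : IsOpenImmersion i₁.left := MorphismProperty.of_isPullback hV' inferInstance
  haveI : QuasiCompact i₁.left := MorphismProperty.of_isPullback hV' inferInstance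
  haveI hV1c : CompactSpace V₁.left := QuasiCompact.compactSpace_of_compactSpace i₁.left
  haveI hV1s : V₁.left.IsSeparated := ⟨by
    rw [← terminal.comp_from i₁.left]; infer_instance⟩
  haveI : IsIso i₁.left.appTop := isIso_appTop_of_isPullback hV'
  haveI : IsIso (G ◁ i₁).left.appTop := isIso_whisker G i₁
  haveI : IsAffine (G ⊗ T₁).left := isAffine_tensor T₁
  haveI := flat_snd G T₁
  haveI := surjective_grp G
  haveI := surjective_snd G T₁
  haveI := lfp_snd G T₁
  have hP1 : IsPullback ((G ◁ σ) ≫ x.act.act).left (snd G V₁).left x.π.left q'.left := by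
    have h := (K750.QuotAff.isPullback_of_pt x.act x.cart σ).map (Over.forget S)
    rw [hσ] at h
    exact h
  obtain ⟨hfl, hsu, hlfp⟩ := hull_props hpb hV' hP1 (e := (G ◁ i₁).left) (g := (snd G T₁).left) (by
    rw [← Over.comp_left, ← Over.comp_left, whiskerLeft_snd])
  haveI : Flat ϖ.left := hfl
  haveI : Surjective ϖ.left := hsu
  haveI : LocallyOfFinitePresentation ϖ.left := hlfp
  -- the action
  haveI : IsIso (G ◁ jj).left.appTop := isIso_whisker G jj
  haveI : IsAffine (G ⊗ Q).left := isAffine_tensor Q
  haveI : IsAffineHom ϖ.left := inferInstance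
  obtain ⟨act, ⟨ha1, ha2⟩, -⟩ := ext_over (G ◁ jj) ϖ (snd G Q ≫ ϖ) (x.act.act ≫ jj) (by
    rw [Category.assoc, hQ.w, ← Category.assoc, x.cart.w, Category.assoc, ← hQ.w,
      whiskerLeft_snd_assoc])
  let a : AlgGrp.Action G Q :=
    { act := act
      one_act := by
        rw [← cancel_epi (λ_ Q).inv, Iso.inv_hom_id]
        apply hom_ext_affine jj
        rw [Category.comp_id, leftUnitor_inv_naturality_assoc, whisker_exchange_assoc, ha1,
          reassoc_of% x.act.one_act, Iso.inv_hom_id_assoc]
      mul_act := by
        haveI : IsAffineHom (G ⊗ G).hom := by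
          rw [← Over.w (snd G G)]
          haveI := K750.QuotAff.isAffineHom_snd G G
          infer_instance
        haveI : Flat (G ⊗ G).hom := by
          rw [← Over.w (snd G G)]
          haveI := flat_snd G G
          infer_instance
        haveI : IsIso ((G ⊗ G) ◁ jj).left.appTop := isIso_whisker (G ⊗ G) jj
        apply hom_ext_affine ((G ⊗ G) ◁ jj)
        rw [whisker_exchange_assoc, ha1, reassoc_of% x.act.mul_act, associator_naturality_right_assoc,
          ← MonoidalCategory.whiskerLeft_comp_assoc, ha1, MonoidalCategory.whiskerLeft_comp_assoc, ha1] }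
  -- the torsor condition
  have hcart : IsPullback a.act (snd G Q) ϖ ϖ := by
    let W := pullback ϖ ϖ
    have hW : IsPullback (pullback.fst ϖ ϖ) (pullback.snd ϖ ϖ) ϖ ϖ := IsPullback.of_hasPullback ϖ ϖ
    have hW' : IsPullback (pullback.fst ϖ ϖ).left (pullback.snd ϖ ϖ).left ϖ.left ϖ.left :=
      hW.map (Over.forget S)
    haveI : Flat (pullback.snd ϖ ϖ).left := MorphismProperty.of_isPullback hW' inferInstance
    haveI : IsAffineHom (pullback.snd ϖ ϖ).left := MorphismProperty.of_isPullback hW' inferInstance
    haveI : IsAffine W.left := isAffine_of_isAffineHom (pullback.snd ϖ ϖ).left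
    let m : G ⊗ Q ⟶ W := pullback.lift act (snd G Q) ha2
    have hk : (G ◁ jj) ≫ m = pullback.lift (x.act.act ≫ jj) (snd G x.P ≫ jj) (by
        rw [Category.assoc, hQ.w, reassoc_of% x.cart.w, Category.assoc, hQ.w]) := by
      apply pullback.hom_ext
      · rw [Category.assoc, pullback.lift_fst, pullback.lift_fst, ha1]
      · rw [Category.assoc, pullback.lift_snd, pullback.lift_snd, whiskerLeft_snd]
    have h1 : IsPullback (x.act.act ≫ jj) (snd G x.P) ϖ (jj ≫ ϖ) := by
      rw [hQ.w]
      exact x.cart.paste_horiz hQ
    have h2 : IsPullback ((G ◁ jj) ≫ m) (snd G x.P) (pullback.snd ϖ ϖ) jj := by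
      refine IsPullback.of_right (h₁₂ := pullback.fst ϖ ϖ) (h₂₂ := ϖ) (v₁₃ := ϖ) ?_ ?_ hW
      · rw [hk, pullback.lift_fst]
        exact h1
      · rw [hk, pullback.lift_snd]
    have h2' : IsPullback ((G ◁ jj) ≫ m).left (snd G x.P).left (pullback.snd ϖ ϖ).left jj.left :=
      h2.map (Over.forget S)
    have h3 : IsIso ((G ◁ jj) ≫ m).left.appTop := isIso_appTop_of_isPullback h2'.flip
    have h4 : IsIso (m.left.appTop ≫ (G ◁ jj).left.appTop) := by
      rw [← Scheme.Hom.comp_appTop, ← Over.comp_left]; exact h3
    haveI : IsIso m.left.appTop := IsIso.of_isIso_comp_right _ (G ◁ jj).left.appTop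
    haveI : IsIso m.left := isIso_of_appTop m.left
    haveI : IsIso ((Over.forget S).map m) := this
    haveI : IsIso m := isIso_of_reflects_iso m (Over.forget S)
    exact hW.of_iso (asIso m).symm (Iso.refl _) (Iso.refl _) (Iso.refl _)
      (by rw [Iso.symm_hom, asIso_inv, IsIso.eq_inv_comp, Iso.refl_hom, Category.comp_id]
          exact pullback.lift_fst _ _ _)
      (by rw [Iso.symm_hom, asIso_inv, IsIso.eq_inv_comp, Iso.refl_hom, Category.comp_id]
          exact pullback.lift_snd _ _ _) (by simp) (by simp)
  -- the map to `X`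
  haveI : IsAffineHom (toUnit X).left := by
    have : (toUnit X).left = X.hom := by simp
    rw [this]; infer_instance
  obtain ⟨φ, ⟨hφ, -⟩, -⟩ := ext_over jj (toUnit X) (toUnit Q) x.φ (Subsingleton.elim _ _)
  have heqv : act ≫ φ = (G ◁ φ) ≫ aX.act := by
    obtain ⟨w, -, hw⟩ := ext_over (G ◁ jj) (toUnit X) (toUnit (G ⊗ Q)) (x.act.act ≫ x.φ)
      (Subsingleton.elim _ _)
    rw [hw (act ≫ φ) ⟨?_, Subsingleton.elim _ _⟩, hw ((G ◁ φ) ≫ aX.act) ⟨?_, Subsingleton.elim _ _⟩]
    · rw [← MonoidalCategory.whiskerLeft_comp_assoc, hφ, x.eqv]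
    · rw [← Category.assoc, ha1, Category.assoc, hφ]
  let z : AlgSt.QuotObj Scheme.fppfPrecoverage G aX :=
    { base := T
      P := Q
      act := a
      π := ϖ
      cart := hcart
      loc := by
        haveI : Flat (Over.mk ϖ.left : Over T.left).hom := hfl
        haveI : Surjective (Over.mk ϖ.left : Over T.left).hom := hsu
        haveI : LocallyOfFinitePresentation (Over.mk ϖ.left : Over T.left).hom := hlfp
        exact K554.Fpqc2.isLocallyTrivialFor_fppf_of_flat (Over.mk ϖ.left : Over T.left)
      φ := φ
      eqv := heqv }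
  let ζ : x ⟶ z :=
    { base := i
      top := jj
      eqv := ha1.symm
      cart := hQ
      wφ := hφ }
  exact ⟨z, ζ, IsHomLift.map (AlgSt.QuotSt Scheme.fppfPrecoverage G aX).p ζ⟩

end K686.ThExt
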