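import Groth.Agent.ThetaS.K686.Sect
import Groth.Agent.ThetaS.K686.ThExt
import Groth.Agent.ThetaS.K943.Points

/-!
# Lifting criterion for `[X/G]` in terms of sections

The objects `cObj y` of `[Y₀/H] ∖ Z` attached to `y : Y ⟶ Y₀` landing in `U` and the arrows `ar n g`
between them.  `hasLift_of_sec`: a functor from the open substack to `[X/G]` extends if the torsor over
`U ×_{Y₀} Z` has a section for a faithfully flat affine `Z ⟶ Y₀`.
-/

set_option autoImplicit false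
set_option linter.dupNamespace false
set_option linter.style.haveILetI false
set_option backward.isDefEq.respectTransparency false
set_option backward.isDefEq.respectTransparency.types false

universe u

open CategoryTheory CategoryTheory.Limits MonoidalCategory CartesianMonoidalCategory MonObj GrpObj
  AlgebraicGeometry TopologicalSpace Opposite
open FibCat K943.FibBase K943.CoverExt K943.QuotAtlas K943.QuotCover K943.LocPair K943.QuotOpen
  K943.QuotTriv K943.SelfLift K686.Sect K942.TorsGeom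

namespace K686.SecObj

section objs

variable {S' S : Scheme.{u}} (h : S' ⟶ S) {H : Over S'} [GrpObj H] {Y₀ : Over S'}
  {aY : AlgGrp.Action H Y₀} {K : Precoverage Scheme.{u}} [K.HasIsos] {U : Y₀.left.Opens}
  (hU : Stable aY U)

theorem uMapG_comp {Y Z W : Over S'} {y : Y ⟶ Y₀} {z : Z ⟶ Y₀} {w : W ⟶ Y₀} (m : Y ⟶ Z) (g : Y ⟶ H)
    (e : sm aY g (m ≫ z) = y) (n : Z ⟶ W) (g' : Z ⟶ H) (e' : sm aY g' (n ≫ w) = z)
    (e'' : sm aY (g * (m ≫ g')) ((m ≫ n) ≫ w) = y) :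
    uMapG (K := K) m g e ≫ uMapG n g' e' = uMapG (m ≫ n) (g * (m ≫ g')) e'' := by
  refine AlgSt.QuotObj.hom_ext rfl ?_
  change (rt g ≫ (H ◁ m)) ≫ (rt g' ≫ (H ◁ n)) = rt (g * (m ≫ g')) ≫ (H ◁ (m ≫ n))
  apply CartesianMonoidalCategory.hom_ext
  · rw [top_fst, Category.assoc, top_fst, comp_mul, top_fst, ← Category.assoc, top_snd, comp_mul,
      _root_.mul_assoc, Category.assoc]
  · rw [top_snd, Category.assoc, top_snd, ← Category.assoc, top_snd, Category.assoc]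

/-- The object attached to a point of `U`. -/
noncomputable def cObj {Y : Over S'} (y : Y ⟶ Y₀) (hy : y.left ⁻¹ᵁ U = ⊤) :
    (sub (ThetaS.overS h (AlgSt.QuotSt K H aY)) (InU K aY U)).obj :=
  ⟨uObj K aY Y y, (inU_uObj_iff hU y).2 hy⟩

/-- The arrow attached to a base map and a point of `H`. -/
noncomputable def ar {Y' Y : Over S'} {y' : Y' ⟶ Y₀} {hy' : y'.left ⁻¹ᵁ U = ⊤} {y : Y ⟶ Y₀}
    {hy : y.left ⁻¹ᵁ U = ⊤} (n : Y' ⟶ Y) (g : Y' ⟶ H) (e : sm aY g (n ≫ y) = y') :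
    cObj (K := K) h hU y' hy' ⟶ cObj h hU y hy :=
  ObjectProperty.homMk (uMapG n g e)

theorem p_map_ar {Y' Y : Over S'} {y' : Y' ⟶ Y₀} {hy' : y'.left ⁻¹ᵁ U = ⊤} {y : Y ⟶ Y₀}
    {hy : y.left ⁻¹ᵁ U = ⊤} (n : Y' ⟶ Y) (g : Y' ⟶ H) (e : sm aY g (n ≫ y) = y') :
    (sub (ThetaS.overS h (AlgSt.QuotSt K H aY)) (InU K aY U)).p.map
      (ar (K := K) h hU (hy' := hy') (hy := hy) n g e) = (Over.map h).map n := rfl

theorem ar_comp {Y₁ Y₂ Y₃ : Over S'} {y₁ : Y₁ ⟶ Y₀} {h₁ : y₁.left ⁻¹ᵁ U = ⊤} {y₂ : Y₂ ⟶ Y₀}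
    {h₂ : y₂.left ⁻¹ᵁ U = ⊤} {y₃ : Y₃ ⟶ Y₀} {h₃ : y₃.left ⁻¹ᵁ U = ⊤} (m : Y₁ ⟶ Y₂) (g : Y₁ ⟶ H)
    (e : sm aY g (m ≫ y₂) = y₁) (n : Y₂ ⟶ Y₃) (g' : Y₂ ⟶ H) (e' : sm aY g' (n ≫ y₃) = y₂)
    (e'' : sm aY (g * (m ≫ g')) ((m ≫ n) ≫ y₃) = y₁) :
    ar (K := K) h hU (hy' := h₁) (hy := h₂) m g e ≫ ar h hU (hy := h₃) n g' e' =
      ar h hU (m ≫ n) (g * (m ≫ g')) e'' := by
  apply ObjectProperty.hom_ext
  exact uMapG_comp m g e n g' e' e''

end objs

section glue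

variable {S : Scheme.{u}}

theorem glue2 {U U₁ U₂ U₁₂ P : Scheme.{u}} {j₁ : U₁ ⟶ U} {j₂ : U₂ ⟶ U} {p₁ : U₁₂ ⟶ U₁}
    {p₂ : U₁₂ ⟶ U₂} [IsOpenImmersion j₁] [IsOpenImmersion j₂]
    (hc : ∀ x : U, x ∈ Set.range j₁ ∨ x ∈ Set.range j₂) (pb : IsPullback p₁ p₂ j₁ j₂)
    (a₁ : U₁ ⟶ P) (a₂ : U₂ ⟶ P) (e : p₁ ≫ a₁ = p₂ ≫ a₂) : ∃ a : U ⟶ P, j₁ ≫ a = a₁ ∧ j₂ ≫ a = a₂ := by
  let 𝒰 : U.OpenCover :=
    { I₀ := Bool
      X := fun b => match b with | true => U₁ | false => U₂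
      f := fun b => match b with | true => j₁ | false => j₂
      mem₀ := by
        rw [Scheme.presieve₀_mem_precoverage_iff]
        refine ⟨fun x => ?_, fun b => by cases b <;> infer_instance⟩
        rcases hc x with hx | hx
        · exact ⟨true, hx⟩
        · exact ⟨false, hx⟩ }
  have h12 : pullback.fst j₁ j₂ ≫ a₁ = pullback.snd j₁ j₂ ≫ a₂ := by
    obtain ⟨l, e1, e2⟩ : ∃ l : pullback j₁ j₂ ⟶ U₁₂, l ≫ p₁ = pullback.fst j₁ j₂ ∧
        l ≫ p₂ = pullback.snd j₁ j₂ :=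
      ⟨pb.lift _ _ pullback.condition, pb.lift_fst _ _ _, pb.lift_snd _ _ _⟩
    rw [← e1, ← e2, Category.assoc, e, Category.assoc]
  have h21 : pullback.fst j₂ j₁ ≫ a₂ = pullback.snd j₂ j₁ ≫ a₁ := by
    rw [← cancel_epi (pullbackSymmetry j₁ j₂).hom, pullbackSymmetry_hom_comp_fst_assoc,
      pullbackSymmetry_hom_comp_snd_assoc, h12]
  let g : ∀ b : 𝒰.I₀, 𝒰.X b ⟶ P := fun b => match b with | true => a₁ | false => a₂
  have hg : ∀ x y : 𝒰.I₀, pullback.fst (𝒰.f x) (𝒰.f y) ≫ g x = pullback.snd (𝒰.f x) (𝒰.f y) ≫ g y := by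
    intro x y
    cases x <;> cases y
    · have : pullback.fst j₂ j₂ = pullback.snd j₂ j₂ := by
        rw [← cancel_mono j₂, pullback.condition]
      exact congrArg (fun t => t ≫ a₂) this
    · exact h21
    · exact h12
    · have : pullback.fst j₁ j₁ = pullback.snd j₁ j₁ := by
        rw [← cancel_mono j₁, pullback.condition]
      exact congrArg (fun t => t ≫ a₁) this
  exact ⟨𝒰.glueMorphisms g hg, 𝒰.ι_glueMorphisms g hg true, 𝒰.ι_glueMorphisms g hg false⟩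

theorem ext2 {U U₁ U₂ P : Scheme.{u}} {j₁ : U₁ ⟶ U} {j₂ : U₂ ⟶ U} [IsOpenImmersion j₁]
    [IsOpenImmersion j₂] (hc : ∀ x : U, x ∈ Set.range j₁ ∨ x ∈ Set.range j₂) (a b : U ⟶ P)
    (h₁ : j₁ ≫ a = j₁ ≫ b) (h₂ : j₂ ≫ a = j₂ ≫ b) : a = b := by
  let 𝒰 : U.OpenCover :=
    { I₀ := Bool
      X := fun b => match b with | true => U₁ | false => U₂
      f := fun b => match b with | true => j₁ | false => j₂
      mem₀ := by
        rw [Scheme.presieve₀_mem_precoverage_iff]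
        refine ⟨fun x => ?_, fun b => by cases b <;> infer_instance⟩
        rcases hc x with hx | hx
        · exact ⟨true, hx⟩
        · exact ⟨false, hx⟩ }
  refine 𝒰.hom_ext _ _ fun x => ?_
  cases x
  · exact h₂
  · exact h₁

variable {G : Over S} [GrpObj G] {X : Over S} {aX : AlgGrp.Action G X}
  {K : Precoverage Scheme.{u}} {𝒜 : BasedCategory.{u, u + 1} (Over S)} {Φ : 𝒜 ⥤ᵇ AlgSt.QuotSt K G aX}

/-- Sections glue over two opens. -/
theorem exists_sec {c c₁ c₂ c₁₂ : 𝒜.obj} (m₁ : c₁ ⟶ c) (m₂ : c₂ ⟶ c) (n₁ : c₁₂ ⟶ c₁) (n₂ : c₁₂ ⟶ c₂)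
    (e : n₁ ≫ m₁ = n₂ ≫ m₂) [IsOpenImmersion (𝒜.p.map m₁).left] [IsOpenImmersion (𝒜.p.map m₂).left]
    (hc : ∀ x : (𝒜.p.obj c).left, x ∈ Set.range (𝒜.p.map m₁).left ∨ x ∈ Set.range (𝒜.p.map m₂).left)
    (pb : IsPullback (𝒜.p.map n₁) (𝒜.p.map n₂) (𝒜.p.map m₁) (𝒜.p.map m₂)) (s₁ : Sec Φ c₁)
    (s₂ : Sec Φ c₂) (hs : res n₁ s₁ = res n₂ s₂) : Nonempty (Sec Φ c) := by
  have e1 : 𝒜.p.map n₁ ≫ s₁.p ≫ (Φ.map m₁).top = 𝒜.p.map n₂ ≫ s₂.p ≫ (Φ.map m₂).top := by
    rw [← Category.assoc, ← res_top, ← Category.assoc, ← res_top, hs, Category.assoc, Category.assoc,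
      ← AlgSt.QuotObj.comp_top, ← AlgSt.QuotObj.comp_top]
    have h1 : Φ.map n₁ ≫ Φ.map m₁ = Φ.map (n₁ ≫ m₁) := (Φ.toFunctor.map_comp _ _).symm
    have h2 : Φ.map n₂ ≫ Φ.map m₂ = Φ.map (n₂ ≫ m₂) := (Φ.toFunctor.map_comp _ _).symm
    rw [h1, h2, e]
  have pb' : IsPullback (𝒜.p.map n₁).left (𝒜.p.map n₂).left (𝒜.p.map m₁).left (𝒜.p.map m₂).left :=
    pb.map (Over.forget S)
  obtain ⟨a, ha₁, ha₂⟩ := glue2 hc pb' (s₁.p ≫ (Φ.map m₁).top).left (s₂.p ≫ (Φ.map m₂).top).left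
    (congrArg CommaMorphism.left e1)
  have hk₁ := congrArg CommaMorphism.left (top_π m₁ s₁)
  have hk₂ := congrArg CommaMorphism.left (top_π m₂ s₂)
  have hπ : a ≫ (Φ.obj c).π.left = (eb Φ c).left := by
    apply ext2 hc
    · rw [← Category.assoc, ha₁]; exact hk₁
    · rw [← Category.assoc, ha₂]; exact hk₂
  refine ⟨⟨Over.homMk a ?_, ?_⟩⟩
  · rw [← Over.w (Φ.obj c).π, ← Category.assoc, hπ, Over.w]
  · apply Over.OverMorphism.ext
    exact hπ

end glue

section crit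

variable {S' S : Scheme.{u}} (h : S' ⟶ S) {H : Over S'} [GrpObj H] {Y₀ : Over S'}
  {aY : AlgGrp.Action H Y₀} {U : Y₀.left.Opens} (hU : Stable aY U) {G : Over S} [GrpObj G]
  {X : Over S} {aX : AlgGrp.Action G X}

/-- Every flat affine scheme over `Y₀` has the same functions as its part over `U`. -/
def FlatGood (U : Y₀.left.Opens) : Prop :=
  ∀ ⦃Y : Over S'⦄ (y : Y ⟶ Y₀), Flat y.left → IsAffine Y.left → IsIso (y.left ⁻¹ᵁ U).ι.appTop

theorem qc_ι {Y : Over S'} (y : Y ⟶ Y₀) [IsAffine Y.left] [IsAffine Y₀.left] [hq : QuasiCompact U.ι] :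
    QuasiCompact (y.left ⁻¹ᵁ U).ι := by
  have h2 : IsPullback (y.left ⁻¹ᵁ U).ι (y.left ∣_ U) y.left U.ι := (isPullback_morphismRestrict y.left U).flip
  exact MorphismProperty.of_isPullback h2.flip hq

theorem uniqFlat_of_good [IsAffineHom G.hom] [Flat G.hom] [IsAffineHom X.hom] [IsAffine Y₀.left]
    [QuasiCompact U.ι] (hg : FlatGood U) :
    UniqFlat h U (toSelf (AlgSt.QuotSt Scheme.fppfPrecoverage G aX)) := by
  intro Y y hy hY
  haveI : IsAffine ((Over.map h).obj Y).left := hY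
  haveI : IsIso ((Over.map h).map (openMap y U)).left.appTop := hg y hy hY
  haveI : QuasiCompact ((Over.map h).map (openMap y U)).left := qc_ι y
  haveI : IsOpenImmersion ((Over.map h).map (openMap y U)).left := by
    change IsOpenImmersion (y.left ⁻¹ᵁ U).ι; infer_instance
  exact uniqAt_quot _ (K686.ThExt.flatExt_of_isIso _)

include hU in
/-- **Lifting criterion.** -/
theorem hasLift_of_sec [Flat H.hom] [IsAffineHom H.hom] [IsAffine Y₀.left] [QuasiCompact U.ι]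
    [IsAffineHom G.hom] [Flat G.hom] [LocallyOfFinitePresentation G.hom] [IsAffineHom X.hom]
    (hg : FlatGood U)
    (sq : LiftSq.Sq (subI (ThetaS.overS h (AlgSt.QuotSt Scheme.fppfPrecoverage H aY))
      (InU Scheme.fppfPrecoverage aY U)) (toSelf (AlgSt.QuotSt Scheme.fppfPrecoverage G aX)))
    {Z : Over S'} (q : Z ⟶ Y₀) [Flat q.left] [Surjective q.left] [IsAffine Z.left]
    (hs : Nonempty (Sec sq.top (vObj (K := Scheme.fppfPrecoverage) h hU q))) : sq.HasLift := by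
  obtain ⟨s⟩ := hs
  have hst := K750.QuotEff.isStack_quotSt (K := Scheme.fppfPrecoverage)
    Scheme.fppfPrecoverage_le_fpqcPrecoverage aX
  haveI : IsFibGrpd (AlgSt.QuotSt Scheme.fppfPrecoverage G aX).p := hst.1
  refine hasLift_quot h hU hst (isPrestack_self _) (uniqFlat_of_good h hg) sq ?_
  -- the arrow of punctured objects
  let v₀ := vObj (K := Scheme.fppfPrecoverage) h hU (𝟙 Y₀)
  let r : YU q U ⟶ YU (𝟙 Y₀) U := Over.homMk (q.left ∣_ U) (by
    change (q.left ∣_ U) ≫ U.ι ≫ Y₀.hom = (q.left ⁻¹ᵁ U).ι ≫ Z.hom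
    rw [← Category.assoc, morphismRestrict_ι, Category.assoc, Over.w])
  have hr : r ≫ openMap (𝟙 Y₀) U = openMap q U ≫ q := by
    apply Over.OverMorphism.ext
    exact morphismRestrict_ι q.left U
  have hpb : IsPullback r (openMap q U) (openMap (𝟙 Y₀) U) q :=
    IsPullback.of_map (Over.forget S') hr (isPullback_morphismRestrict q.left U)
  let m : vObj (K := Scheme.fppfPrecoverage) h hU q ⟶ v₀ :=
    ObjectProperty.homMk (uMap r (by rw [Category.comp_id, hr]))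
  have hpm : (sub (ThetaS.overS h (AlgSt.QuotSt Scheme.fppfPrecoverage H aY))
      (InU Scheme.fppfPrecoverage aY U)).p.map m = (Over.map h).map r := rfl
  let x := sq.top.obj v₀
  let T : Over S := (Over.map h).obj Y₀
  let o : (Over.map h).obj (YU (𝟙 Y₀) U) ⟶ T := (Over.map h).map (openMap (𝟙 Y₀) U)
  haveI hoo : IsOpenImmersion o.left := by change IsOpenImmersion U.ι; infer_instance
  haveI hoq : QuasiCompact o.left := by change QuasiCompact U.ι; infer_instance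
  haveI hoi : IsIso o.left.appTop := hg (𝟙 Y₀) (by change Flat (𝟙 Y₀.left); infer_instance) inferInstance
  haveI : IsAffine T.left := inferInstanceAs (IsAffine Y₀.left)
  let i : x.base ⟶ T := inv (eb sq.top v₀) ≫ o
  have hil : i.left = (inv (eb sq.top v₀)).left ≫ o.left := rfl
  haveI : IsIso (inv (eb sq.top v₀)).left := by
    change IsIso ((Over.forget S).map (inv (eb sq.top v₀))); infer_instance
  haveI : IsOpenImmersion i.left := by rw [hil]; infer_instance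
  haveI : QuasiCompact i.left := by rw [hil]; infer_instance
  haveI : IsIso i.left.appTop := by rw [hil, Scheme.Hom.comp_appTop]; infer_instance
  let q₁ : (Over.map h).obj Z ⟶ T := (Over.map h).map q
  haveI : Flat q₁.left := inferInstanceAs (Flat q.left)
  haveI : Surjective q₁.left := inferInstanceAs (Surjective q.left)
  haveI : IsAffine ((Over.map h).obj Z).left := inferInstanceAs (IsAffine Z.left)
  have hV : IsPullback ((Over.map h).map r ≫ eb sq.top v₀) ((Over.map h).map (openMap q U)) i q₁ := by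
    have h1 : IsPullback ((Over.map h).map r) ((Over.map h).map (openMap q U)) o q₁ := by
      refine IsPullback.of_map (Over.forget S) ?_ (hpb.map (Over.forget S'))
      rw [← Functor.map_comp, ← Functor.map_comp, hr]
    exact h1.of_iso (Iso.refl _) (asIso (eb sq.top v₀)) (Iso.refl _) (Iso.refl _) (by simp) (by simp)
      (by simp [i]) (by simp)
  obtain ⟨z, ζ, hζ⟩ := K686.ThExt.exists_ext x i hV (s.p ≫ (sq.top.map m).top) (by
    rw [top_π, hpm])
  have hk := isQTerm (K := Scheme.fppfPrecoverage) h hU (𝟙 Y₀)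
  refine exists_LL_self sq v₀ _ hk z ζ ?_
  have h3 : (AlgSt.QuotSt Scheme.fppfPrecoverage G aX).p.IsHomLift
      (eqToHom (sq.top.w_obj v₀).symm ≫ i) ζ := inferInstance
  have h4 : eqToHom (sq.top.w_obj v₀).symm ≫ i = o := by
    change eb sq.top v₀ ≫ inv (eb sq.top v₀) ≫ o = o
    rw [IsIso.hom_inv_id_assoc]
  rw [h4] at h3
  exact h3

end crit

end K686.SecObj
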