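import Groth.Agent.ThetaS.K686.SecObj
import Groth.Agent.Books.DynBasic

/-!
# Ring-valued sections

Objects of the punctured quotient stack `[Y₀/𝔾_m] ∖ Z` given by ring-valued points `y : Spec B ⟶ Y₀`, the
restriction maps `rs f u` of sections along `f : B → B'` and a unit `u` of `B'` with `u · f(y) = y'`,
and the action of the algebraic group of points `WithConv (A →ₐ[k] B)`.
-/

set_option autoImplicit false
set_option linter.dupNamespace false
set_option linter.style.haveILetI false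
set_option backward.isDefEq.respectTransparency false
set_option backward.isDefEq.respectTransparency.types false

universe u

open CategoryTheory CategoryTheory.Limits MonoidalCategory CartesianMonoidalCategory MonObj GrpObj
  AlgebraicGeometry TopologicalSpace Opposite WithConv
open FibCat K943.FibBase K943.CoverExt K943.QuotAtlas K943.QuotCover K943.LocPair K943.QuotOpen
  K943.QuotTriv K943.SelfLift K686.Sect K686.SecObj
open Groth.Agent.Books.DynBasic
open scoped TensorProduct Polynomial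

namespace K686.SecRing

open ThetaS

section gm

variable {R : Type u} [CommRing R] {B B' : Type u} [CommRing B] [Algebra R B] [CommRing B']
  [Algebra R B']

/-- The character of a unit. -/
noncomputable def gmHom (u : Bˣ) : Lau R →ₐ[R] B :=
  MonoidAlgebra.lift R B (Multiplicative ℤ) ((Units.coeHom _).comp (zpowersHom _ u))

theorem gmHom_zPow (u : Bˣ) (n : ℤ) : gmHom (R := R) u (zPow R n) = ((u ^ n : Bˣ) : B) := by
  rw [gmHom, zPow, MonoidAlgebra.lift_single, one_smul]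
  rfl

theorem gmHom_ext {f g : Lau R →ₐ[R] B} (h : f (zPow R 1) = g (zPow R 1)) : f = g := by
  refine MonoidAlgebra.algHom_ext (fun m => ?_) (Subsingleton.elim _ _)
  have key : ∀ (f : Lau R →ₐ[R] B) (n : ℤ), f (zPow R 1) * f (zPow R n) = f (zPow R (1 + n)) := by
    intro f n
    rw [← map_mul, zPow_mul]
  have hinv : ∀ (f : Lau R →ₐ[R] B) (n : ℤ), f (zPow R n) * f (zPow R (-n)) = 1 := by
    intro f n
    rw [← map_mul, zPow_mul, add_neg_cancel, zPow_zero, map_one]
  have hn : ∀ n : ℕ, f (zPow R n) = g (zPow R n) := by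
    intro n
    induction n with
    | zero => rw [Nat.cast_zero, zPow_zero, map_one, map_one]
    | succ n ih => rw [Nat.cast_succ, add_comm, ← key, ← key, h, ih]
  have hz : ∀ n : ℤ, f (zPow R n) = g (zPow R n) := by
    intro n
    obtain ⟨m, rfl | rfl⟩ := Int.eq_nat_or_neg n
    · exact hn m
    · have h1 := hinv f m
      have h2 := hinv g m
      rw [hn] at h1
      calc f (zPow R (-(m : ℤ))) = (g (zPow R m) * g (zPow R (-(m : ℤ)))) * f (zPow R (-(m : ℤ))) := by
            rw [h2, _root_.one_mul]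
        _ = g (zPow R (-(m : ℤ))) * (g (zPow R m) * f (zPow R (-(m : ℤ)))) := by ring
        _ = _ := by rw [h1, _root_.mul_one]
  exact hz (Multiplicative.toAdd m)

theorem gmHom_comp (f : B →ₐ[R] B') (u : Bˣ) : f.comp (gmHom u) = gmHom (Units.map (f : B →* B') u) := by
  apply gmHom_ext
  rw [AlgHom.comp_apply, gmHom_zPow, gmHom_zPow, zpow_one, zpow_one]
  rfl

/-- The point of the multiplicative group attached to a unit. -/
noncomputable def gmPt (u : Bˣ) : CoactBr.sp R B ⟶ Gm R := CoactBr.pt (gmHom u)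

theorem gmPt_comp (f : B →ₐ[R] B') (u : Bˣ) :
    CoactBr.pt f ≫ gmPt u = gmPt (Units.map (f : B →* B') u) := by
  rw [gmPt, gmPt, ← gmHom_comp, CoactBr.pt_comp]

theorem gmPt_mul (u v : Bˣ) : gmPt (R := R) (u * v) = gmPt u * gmPt v := by
  have h1 : gmPt (R := R) u * gmPt v = CoactBr.pt ((Algebra.TensorProduct.lift (gmHom u) (gmHom v)
    fun _ _ => .all _ _).comp (Bialgebra.comulAlgHom R (Lau R))) := CoactBr.pt_mul_pt _ _
  rw [h1, gmPt]
  congr 1
  apply gmHom_ext
  rw [AlgHom.comp_apply, Bialgebra.comulAlgHom_apply, comul_zPow, Algebra.TensorProduct.lift_tmul,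
    gmHom_zPow, gmHom_zPow, gmHom_zPow, zpow_one, zpow_one, zpow_one, Units.val_mul]

theorem gmPt_one : gmPt (R := R) (1 : Bˣ) = 1 := by
  have h1 : (1 : CoactBr.sp R B ⟶ Gm R) = CoactBr.pt ((Algebra.ofId R B).comp
    (Bialgebra.counitAlgHom R (Lau R))) := CoactBr.one_eq_pt
  rw [h1, gmPt]
  congr 1
  apply gmHom_ext
  rw [gmHom_zPow, AlgHom.comp_apply, Bialgebra.counitAlgHom_apply, counit_zPow, map_one, one_zpow]
  rfl

end gm

section rs

variable {R : Type u} [CommRing R] {S : Scheme.{u}} (h : Spec (CommRingCat.of R) ⟶ S)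
  {Y₀ : Over (Spec (CommRingCat.of R))} {aY : AlgGrp.Action (Gm R) Y₀} {U : Y₀.left.Opens}
  (hU : Stable aY U)
  {B : Type u} [CommRing B] [Algebra R B] {B' : Type u} [CommRing B'] [Algebra R B']
  {B'' : Type u} [CommRing B''] [Algebra R B'']

/-- `u · f(y) = y'` -/
def Tr (f : B →ₐ[R] B') (u : B'ˣ) (y : CoactBr.sp R B ⟶ Y₀) (y' : CoactBr.sp R B' ⟶ Y₀) : Prop :=
  sm aY (gmPt u) (CoactBr.pt f ≫ y) = y'

theorem Tr.comp {f : B →ₐ[R] B'} {u : B'ˣ} {y : CoactBr.sp R B ⟶ Y₀} {y' : CoactBr.sp R B' ⟶ Y₀}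
    (e : Tr (aY := aY) f u y y') {f' : B' →ₐ[R] B''} {u' : B''ˣ} {y'' : CoactBr.sp R B'' ⟶ Y₀}
    (e' : Tr (aY := aY) f' u' y' y'') :
    Tr (aY := aY) (f'.comp f) (u' * Units.map (f' : B' →* B'') u) y y'' := by
  unfold Tr at *
  rw [gmPt_mul, sm_mul, ← gmPt_comp, CoactBr.pt_comp, Category.assoc, ← comp_sm, e, e']

theorem Tr.id (y : CoactBr.sp R B ⟶ Y₀) : Tr (aY := aY) (AlgHom.id R B) 1 y y := by
  unfold Tr
  rw [gmPt_one, sm_one, CoactBr.pt_id, Category.id_comp]

variable {G : Over S} [GrpObj G] {X : Over S} {aX : AlgGrp.Action G X}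
  {K K' : Precoverage Scheme.{u}} [K.HasIsos]
  {Φ : sub (ThetaS.overS h (AlgSt.QuotSt K (Gm R) aY)) (InU K aY U) ⥤ᵇ AlgSt.QuotSt K' G aX}

/-- Sections over the ring-valued point `y`. -/
abbrev RSec (Φ : sub (ThetaS.overS h (AlgSt.QuotSt K (Gm R) aY)) (InU K aY U) ⥤ᵇ AlgSt.QuotSt K' G aX)
    (y : CoactBr.sp R B ⟶ Y₀) (hy : y.left ⁻¹ᵁ U = ⊤) : Type u :=
  Sec Φ (cObj (K := K) h hU y hy)

variable {y : CoactBr.sp R B ⟶ Y₀} {hy : y.left ⁻¹ᵁ U = ⊤} {y' : CoactBr.sp R B' ⟶ Y₀}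
  {hy' : y'.left ⁻¹ᵁ U = ⊤} {y'' : CoactBr.sp R B'' ⟶ Y₀} {hy'' : y''.left ⁻¹ᵁ U = ⊤}

variable {h hU}

/-- The restriction maps. -/
noncomputable def rs {f : B →ₐ[R] B'} {u : B'ˣ} (e : Tr (aY := aY) f u y y') (s : RSec h hU Φ y hy) :
    RSec h hU Φ y' hy' :=
  res (ar (K := K) h hU (CoactBr.pt f) (gmPt u) e) s

theorem rs_rs {f : B →ₐ[R] B'} {u : B'ˣ} (e : Tr (aY := aY) f u y y') {f' : B' →ₐ[R] B''} {u' : B''ˣ}
    (e' : Tr (aY := aY) f' u' y' y'') (s : RSec h hU Φ y hy) :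
    rs (hy' := hy'') e' (rs (hy' := hy') e s) = rs (e.comp e') s := by
  rw [rs, rs, rs, res_res]
  have key : ∀ (n n' : CoactBr.sp R B'' ⟶ CoactBr.sp R B) (g g' : CoactBr.sp R B'' ⟶ Gm R) (hn : n = n')
      (hg : g = g') (d : sm aY g (n ≫ y) = y'') (d' : sm aY g' (n' ≫ y) = y''),
      res (Φ := Φ) (ar (K := K) h hU (hy' := hy'') (hy := hy) n g d) s = res (ar h hU n' g' d') s := by
    rintro n _ g _ rfl rfl _ _; rfl
  have e3 : sm aY (gmPt u' * (CoactBr.pt f' ≫ gmPt u)) ((CoactBr.pt f' ≫ CoactBr.pt f) ≫ y) = y'' := by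
    have := e.comp e'
    unfold Tr at this
    rwa [gmPt_mul, ← gmPt_comp, CoactBr.pt_comp] at this
  rw [ar_comp (K := K) h hU (CoactBr.pt f') (gmPt u') e' (CoactBr.pt f) (gmPt u) e e3]
  apply key
  · rw [CoactBr.pt_comp]
  · rw [gmPt_mul, gmPt_comp]

theorem rs_congr {f g : B →ₐ[R] B'} {u v : B'ˣ} (e : Tr (aY := aY) f u y y')
    (e' : Tr (aY := aY) g v y y') (hf : f = g) (hu : u = v) (s : RSec h hU Φ y hy) :
    rs (hy' := hy') e s = rs e' s := by
  subst hf hu; rfl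

theorem rs_act {f : B →ₐ[R] B'} {u : B'ˣ} (e : Tr (aY := aY) f u y y')
    (g : (Over.map h).obj (CoactBr.sp R B) ⟶ G) (s : RSec h hU Φ y hy) :
    rs (hy' := hy') e (act g s) = act ((Over.map h).map (CoactBr.pt f) ≫ g) (rs (hy' := hy') e s) :=
  res_act _ _ _

end rs

section pts

variable {k : Type u} [CommRing k] {R : Type u} [CommRing R] [Algebra k R]
  {B : Type u} [CommRing B] [Algebra R B] [Algebra k B] [IsScalarTower k R B]
  {B' : Type u} [CommRing B'] [Algebra R B'] [Algebra k B'] [IsScalarTower k R B']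

variable (k R B) in
/-- `Spec B` over `Spec k`. -/
noncomputable def tk : (Over.map (Spec.map (CommRingCat.ofHom (algebraMap k R)))).obj (CoactBr.sp R B) ≅
    CoactBr.sp k B :=
  Over.isoMk (Iso.refl _) (by
    change 𝟙 _ ≫ Spec.map (CommRingCat.ofHom (algebraMap k B)) =
      Spec.map (CommRingCat.ofHom (algebraMap R B)) ≫ Spec.map (CommRingCat.ofHom (algebraMap k R))
    rw [Category.id_comp, ← Spec.map_comp, ← CommRingCat.ofHom_comp, ← IsScalarTower.algebraMap_eq])

theorem tk_nat (f : B →ₐ[R] B') :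
    (Over.map (Spec.map (CommRingCat.ofHom (algebraMap k R)))).map (CoactBr.pt f) ≫ (tk k R B).hom =
      (tk k R B').hom ≫ CoactBr.pt (f.restrictScalars k) := by
  apply Over.OverMorphism.ext
  change Spec.map (CommRingCat.ofHom f.toRingHom) ≫ 𝟙 _ =
    𝟙 _ ≫ Spec.map (CommRingCat.ofHom (f.restrictScalars k).toRingHom)
  rw [Category.comp_id, Category.id_comp]
  rfl

variable {A : Type u} [CommRing A] [HopfAlgebra k A] {G : Over (Spec (CommRingCat.of k))} [GrpObj G]
  (ε : G ≅ CoactBr.sp k A)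

omit [HopfAlgebra k A] [Algebra R B] [IsScalarTower k R B] in
theorem exists_pt [Algebra k A] (w : CoactBr.sp k B ⟶ CoactBr.sp k A) :
    ∃ φ : A →ₐ[k] B, CoactBr.pt φ = w := by
  obtain ⟨f, hf⟩ := Spec.map_surjective w.left
  have h1 : w.left ≫ Spec.map (CommRingCat.ofHom (algebraMap k A)) =
      Spec.map (CommRingCat.ofHom (algebraMap k B)) := Over.w w
  rw [← hf, ← Spec.map_comp] at h1
  have h2 := Spec.map_injective h1
  refine ⟨⟨f.hom, fun r => ?_⟩, ?_⟩
  · exact congr($h2 r)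
  · apply Over.OverMorphism.ext
    exact hf

/-- The morphism attached to an algebraic point. -/
noncomputable def gp (g : WithConv (A →ₐ[k] B)) :
    (Over.map (Spec.map (CommRingCat.ofHom (algebraMap k R)))).obj (CoactBr.sp R B) ⟶ G :=
  (tk k R B).hom ≫ CoactBr.pt g.ofConv ≫ ε.inv

theorem gp_mul [IsMonHom ε.inv] (g g' : WithConv (A →ₐ[k] B)) :
    gp (R := R) ε (g * g') = gp ε g * gp ε g' := by
  have h1 : CoactBr.pt (g * g').ofConv = CoactBr.pt g.ofConv * CoactBr.pt g'.ofConv :=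
    map_mul Spec.mapMulEquiv g g'
  rw [gp, gp, gp, h1, MonObj.mul_comp, ← MonObj.comp_mul]

omit [GrpObj G] in
theorem gp_map (f : B →ₐ[R] B') (g : WithConv (A →ₐ[k] B)) :
    (Over.map (Spec.map (CommRingCat.ofHom (algebraMap k R)))).map (CoactBr.pt f) ≫ gp ε g =
      gp ε (mapPt (f.restrictScalars k) g) := by
  rw [gp, ← Category.assoc, tk_nat, gp, Category.assoc]
  congr 1
  rw [← Category.assoc, ← CoactBr.pt_comp]
  rfl

omit [GrpObj G] in
theorem gp_surjective (g : (Over.map (Spec.map (CommRingCat.ofHom (algebraMap k R)))).obj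
    (CoactBr.sp R B) ⟶ G) : ∃ γ : WithConv (A →ₐ[k] B), gp ε γ = g := by
  obtain ⟨φ, hφ⟩ := exists_pt ((tk k R B).inv ≫ g ≫ ε.hom)
  refine ⟨toConv φ, ?_⟩
  rw [gp, ofConv_toConv, hφ]
  simp

omit [GrpObj G] in
theorem gp_injective {g g' : WithConv (A →ₐ[k] B)} (h : gp (R := R) ε g = gp ε g') : g = g' := by
  rw [gp, gp, cancel_epi, cancel_mono] at h
  exact WithConv.ofConv_injective (CoactBr.pt_injective h)

end pts

end K686.SecRing
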