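import Groth.Agent.ThetaS.K943.SelfLift
import Groth.Agent.ThetaS.K943.QuotTriv

/-!
# Sections of the torsors of a functor to a quotient stack

`Φ : 𝒜 ⥤ᵇ [X/G]` over `(Sch/S)`.  `Sec Φ c` is the set of sections of the torsor of `Φ(c)`; it is a
pseudo-torsor under the group of `G`-valued points of the base of `c`, contravariant in `c`.
-/

set_option backward.isDefEq.respectTransparency false
set_option backward.isDefEq.respectTransparency.types false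
set_option autoImplicit false
set_option linter.style.haveILetI false

universe v w u

open CategoryTheory CategoryTheory.Limits MonoidalCategory CartesianMonoidalCategory MonObj GrpObj
  AlgebraicGeometry
open K943.QuotAtlas

namespace K686.Sect

variable {S : Scheme.{u}} {G : Over S} [GrpObj G] {X : Over S} {aX : AlgGrp.Action G X}
  {K : Precoverage Scheme.{u}} {𝒜 : BasedCategory.{v, w} (Over S)} (Φ : 𝒜 ⥤ᵇ AlgSt.QuotSt K G aX)

/-- The identification of the base of `c` with the base of its value. -/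
noncomputable def eb (c : 𝒜.obj) : 𝒜.p.obj c ⟶ (Φ.obj c).base := eqToHom (Φ.w_obj c).symm

instance (c : 𝒜.obj) : IsIso (eb Φ c) := by unfold eb; infer_instance

theorem eb_nat {c c' : 𝒜.obj} (m : c ⟶ c') : 𝒜.p.map m ≫ eb Φ c' = eb Φ c ≫ (Φ.map m).base := by
  haveI : 𝒜.p.IsHomLift (𝒜.p.map m) m := IsHomLift.map 𝒜.p m
  haveI : (AlgSt.QuotSt K G aX).p.IsHomLift (𝒜.p.map m) (Φ.map m) :=
    BasedFunctor.preserves_isHomLift Φ _ _
  have h1 := IsHomLift.fac' (AlgSt.QuotSt K G aX).p (𝒜.p.map m) (Φ.map m)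
  have h2 : (AlgSt.QuotSt K G aX).p.map (Φ.map m) = (Φ.map m).base := rfl
  rw [h2] at h1
  rw [h1, eb, eb]
  simp

/-- Sections of the torsor of `Φ(c)`. -/
@[ext]
structure Sec (c : 𝒜.obj) where
  /-- the section -/
  p : 𝒜.p.obj c ⟶ (Φ.obj c).P
  hp : p ≫ (Φ.obj c).π = eb Φ c

variable {Φ}

/-- Sections over `c` as maps to the torsor of `c'`. -/
theorem ext_top {c c' : 𝒜.obj} (m : c ⟶ c') {s s' : Sec Φ c}
    (h : s.p ≫ (Φ.map m).top = s'.p ≫ (Φ.map m).top) : s = s' := by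
  apply Sec.ext
  exact (Φ.map m).cart.hom_ext h (s.hp.trans s'.hp.symm)

theorem exists_of_top {c c' : 𝒜.obj} (m : c ⟶ c') (q : 𝒜.p.obj c ⟶ (Φ.obj c').P)
    (hq : q ≫ (Φ.obj c').π = 𝒜.p.map m ≫ eb Φ c') : ∃ s : Sec Φ c, s.p ≫ (Φ.map m).top = q :=
  ⟨⟨(Φ.map m).cart.lift q (eb Φ c) (by rw [hq, eb_nat]), (Φ.map m).cart.lift_snd _ _ _⟩,
    (Φ.map m).cart.lift_fst _ _ _⟩

theorem top_π {c c' : 𝒜.obj} (m : c ⟶ c') (s : Sec Φ c) :
    (s.p ≫ (Φ.map m).top) ≫ (Φ.obj c').π = 𝒜.p.map m ≫ eb Φ c' := by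
  rw [Category.assoc, (Φ.map m).cart.w, ← Category.assoc, s.hp, eb_nat]

/-- Restriction of sections. -/
noncomputable def res {c c' : 𝒜.obj} (m : c ⟶ c') (s : Sec Φ c') : Sec Φ c :=
  ⟨(Φ.map m).cart.lift (𝒜.p.map m ≫ s.p) (eb Φ c) (by rw [Category.assoc, s.hp, eb_nat]),
    (Φ.map m).cart.lift_snd _ _ _⟩

theorem res_top {c c' : 𝒜.obj} (m : c ⟶ c') (s : Sec Φ c') :
    (res m s).p ≫ (Φ.map m).top = 𝒜.p.map m ≫ s.p := (Φ.map m).cart.lift_fst _ _ _

theorem res_res {c c' c'' : 𝒜.obj} (m : c ⟶ c') (m' : c' ⟶ c'') (s : Sec Φ c'') :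
    res m (res m' s) = res (m ≫ m') s := by
  apply ext_top (m ≫ m')
  rw [res_top]
  have h1 : Φ.map (m ≫ m') = Φ.map m ≫ Φ.map m' := Φ.toFunctor.map_comp _ _
  rw [h1, AlgSt.QuotObj.comp_top, ← Category.assoc, res_top, Category.assoc, res_top,
    𝒜.p.map_comp, Category.assoc]

theorem sm_π (c : AlgSt.QuotObj K G aX) {T : Over S} (g : T ⟶ G) (p : T ⟶ c.P) :
    sm c.act g p ≫ c.π = p ≫ c.π := by
  rw [sm_def, Category.assoc, c.cart.w, ← Category.assoc, lift_snd]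

/-- The action of points of `G`. -/
noncomputable def act {c : 𝒜.obj} (g : 𝒜.p.obj c ⟶ G) (s : Sec Φ c) : Sec Φ c :=
  ⟨sm (Φ.obj c).act g s.p, by rw [sm_π, s.hp]⟩

theorem act_one {c : 𝒜.obj} (s : Sec Φ c) : act (1 : 𝒜.p.obj c ⟶ G) s = s :=
  Sec.ext (sm_one _ _)

theorem act_mul {c : 𝒜.obj} (g g' : 𝒜.p.obj c ⟶ G) (s : Sec Φ c) :
    act (g * g') s = act g (act g' s) := Sec.ext (sm_mul _ _ _ _)

theorem res_act {c c' : 𝒜.obj} (m : c ⟶ c') (g : 𝒜.p.obj c' ⟶ G) (s : Sec Φ c') :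
    res m (act g s) = act (𝒜.p.map m ≫ g) (res m s) := by
  apply ext_top m
  rw [res_top]
  change 𝒜.p.map m ≫ sm (Φ.obj c').act g s.p = sm (Φ.obj c).act (𝒜.p.map m ≫ g) (res m s).p ≫ (Φ.map m).top
  rw [sm_eqv (Φ.map m).eqv, res_top, comp_sm]

theorem exists_act {c : 𝒜.obj} (s s' : Sec Φ c) : ∃ g : 𝒜.p.obj c ⟶ G, s' = act g s := by
  have hc := (Φ.obj c).cart
  refine ⟨hc.lift s'.p s.p (s'.hp.trans s.hp.symm) ≫ fst G _, Sec.ext ?_⟩
  change s'.p = sm (Φ.obj c).act _ s.p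
  rw [sm_def]
  have h1 : lift (hc.lift s'.p s.p (s'.hp.trans s.hp.symm) ≫ fst G _) s.p =
      hc.lift s'.p s.p (s'.hp.trans s.hp.symm) := by
    apply CartesianMonoidalCategory.hom_ext
    · rw [lift_fst]
    · rw [lift_snd, hc.lift_snd]
  rw [h1, hc.lift_fst]

theorem act_injective {c : 𝒜.obj} (s : Sec Φ c) {g g' : 𝒜.p.obj c ⟶ G} (h : act g s = act g' s) :
    g = g' := by
  have hc := (Φ.obj c).cart
  have h1 : sm (Φ.obj c).act g s.p = sm (Φ.obj c).act g' s.p := congrArg Sec.p h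
  rw [sm_def, sm_def] at h1
  have h2 : lift g s.p = lift g' s.p := hc.hom_ext h1 (by rw [lift_snd, lift_snd])
  have h3 := congrArg (fun t => t ≫ fst G _) h2
  rwa [lift_fst, lift_fst] at h3

end K686.Sect
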