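import Groth.Agent.ThetaS.K686.ThRings
import Groth.Agent.ThetaS.K686.SecLine

/-!
# The section over the punctured line over a valuation ring

`exists_vsec_line`: for a functor `Φ : Θ_R ∖ 0 ⟶ [X/G]`, sections `ρ` over the point `1` of a valuation
ring `O` with fraction field `F = O[1/ϖ]` and `s` over `F⟦x⟧`, and Cartan and Iwasawa decompositions, the
torsor has a section over the complement of `V(x, ϖ)` in `Spec O[x]`.
-/

set_option autoImplicit false
set_option linter.dupNamespace false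
set_option linter.style.haveILetI false
set_option backward.isDefEq.respectTransparency false
set_option backward.isDefEq.respectTransparency.types false

universe u

open CategoryTheory CategoryTheory.Limits MonoidalCategory CartesianMonoidalCategory MonObj GrpObj
  AlgebraicGeometry TopologicalSpace Opposite WithConv
open FibCat K943.FibBase K943.CoverExt K943.QuotAtlas K943.QuotCover K943.LocPair K943.QuotOpen
  K943.QuotTriv K943.SelfLift K686.Sect K686.SecObj K686.SecRing K686.SecLine K686.SecGlue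
  K686.ThRings K686.ThRot K942.Coord
open Groth.Agent.Books.DynBasic Groth.Agent.Books.DynLim
open scoped TensorProduct Polynomial PowerSeries LaurentPolynomial

namespace K686.ThCore

open ThetaS

variable {k : Type u} [CommRing k] {R : Type u} [CommRing R] [Algebra k R]
  {O : Type u} [CommRing O] [Algebra R O] [Algebra k O] [IsScalarTower k R O]
  {F : Type u} [Field F] [Algebra R F] [Algebra k F] [IsScalarTower k R F]
  [Algebra O F] [IsScalarTower R O F] [IsScalarTower k O F]
  {K : Type u} [Field K] [Algebra F⟦X⟧ K] [IsFractionRing F⟦X⟧ K] [Algebra R K]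
  [IsScalarTower R F⟦X⟧ K] [Algebra k K] [IsScalarTower k R K] [IsScalarTower k F⟦X⟧ K]
  {A : Type u} [CommRing A] [HopfAlgebra k A] {G : Over (Spec (CommRingCat.of k))} [GrpObj G]
  [IsAffineHom G.hom]
  (ε : G ≅ CoactBr.sp k A) [IsMonHom ε.inv]
  {X : Over (Spec (CommRingCat.of k))} {aX : AlgGrp.Action G X}
  {Kt : Precoverage Scheme.{u}} [Kt.HasIsos]

/-- Points with values in the image of `O`. -/
theorem exists_int (hinj : Function.Injective (algebraMap O F)) (g : WithConv (A →ₐ[k] F))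
    (hg : ∀ f, g.ofConv f ∈ (algebraMap O F).range) :
    ∃ g' : WithConv (A →ₐ[k] O), g = mapPt (IsScalarTower.toAlgHom k O F) g' := by
  choose c hc using hg
  refine ⟨toConv
    { toFun := c
      map_one' := hinj (by rw [hc, map_one, map_one])
      map_mul' := fun a b => hinj (by rw [hc, map_mul, map_mul, hc, hc])
      map_zero' := hinj (by rw [hc, map_zero, map_zero])
      map_add' := fun a b => hinj (by rw [hc, map_add, map_add, hc, hc])
      commutes' := fun r => hinj (by rw [hc, AlgHom.commutes, ← IsScalarTower.algebraMap_apply]) }, ?_⟩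
  apply WithConv.ofConv_injective
  apply AlgHom.ext
  intro f
  exact (hc f).symm

include ε in
theorem exists_vsec_line [Infinite F] {ϖ : R} [IsLocalization.Away (algebraMap R O ϖ) F]
    (hinj : Function.Injective (algebraMap O F))
    {Φ : sub (ThetaS.overS (Spec.map (CommRingCat.ofHom (algebraMap k R)))
      (AlgSt.QuotSt Kt (Gm R) (lineAction R))) (InU Kt (lineAction R) (Uline ϖ)) ⥤ᵇ
        AlgSt.QuotSt Scheme.fppfPrecoverage G aX}
    {hρ : (lp (1 : O)).left ⁻¹ᵁ Uline ϖ = ⊤} {hs : (lp (PowerSeries.X : F⟦X⟧)).left ⁻¹ᵁ Uline ϖ = ⊤}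
    (ρ : RSec _ (stable_line ϖ) Φ (lp (1 : O)) hρ)
    (s : RSec _ (stable_line ϖ) Φ (lp (PowerSeries.X : F⟦X⟧)) hs)
    (hCI : ∀ g : WithConv (A →ₐ[k] K), ∃ (b a : WithConv (A →ₐ[k] F⟦X⟧)) (lam : A →ₐc[k] k[T;T⁻¹]),
      g = mapPt (jj k F K) b * lamU lam (xx F K) * mapPt (jj k F K) a ∧
        ∀ a₀ : WithConv (A →ₐ[k] F), ∃ p ∈ PSub lam F, ∃ h : WithConv (A →ₐ[k] F),
          (∀ f, h.ofConv f ∈ (algebraMap O F).range) ∧ a₀ = p * h) :
    Nonempty (Sec Φ (vObj (K := Kt) (Spec.map (CommRingCat.ofHom (algebraMap k R))) (stable_line ϖ)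
      (lp (Polynomial.X : O[X])))) := by
  classical
  let kR : Spec (CommRingCat.of R) ⟶ Spec (CommRingCat.of k) := Spec.map (CommRingCat.ofHom (algebraMap k R))
  have hcop : ∀ {B : Type u} [CommRing B] [Algebra R B] (b : B), IsUnit b →
      (lp (R := R) b).left ⁻¹ᵁ Uline ϖ = ⊤ := by
    intro B _ _ b hb
    obtain ⟨u, rfl⟩ := hb
    exact top_line ⟨((u⁻¹ : Bˣ) : B), 0, by rw [Units.inv_mul, zero_mul, add_zero]⟩
  have hϖ : IsUnit (algebraMap R F ϖ) := by
    rw [IsScalarTower.algebraMap_apply R O F]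
    exact IsLocalization.Away.algebraMap_isUnit (algebraMap R O ϖ)
  have hFX : (lp (R := R) (Polynomial.X : F[X])).left ⁻¹ᵁ Uline ϖ = ⊤ := by
    obtain ⟨u, hu⟩ := hϖ
    refine top_line ⟨0, Polynomial.C ((u⁻¹ : Fˣ) : F), ?_⟩
    rw [zero_mul, zero_add, IsScalarTower.algebraMap_apply R F F[X], Polynomial.algebraMap_eq, ← map_mul, ← hu,
      Units.inv_mul, map_one]
  -- the units
  let x : Kˣ := xx F K
  have hx := hcop (x : K) x.isUnit
  let xL : (LO O)ˣ := (isUnit_g1 R O).unit
  have hxL := hcop (xL : LO O) xL.isUnit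
  let xM : (MF F)ˣ := (isUnit_g3 R F).unit
  have hxM := hcop (xM : MF F) xM.isUnit
  -- the algebra maps
  let j : F⟦X⟧ →ₐ[R] K := jj R F K
  let cO : O →ₐ[R] K := (j.comp (cc (k := R))).comp (IsScalarTower.toAlgHom R O F)
  let cL : O →ₐ[R] LO O := (g1 R O).comp (IsScalarTower.toAlgHom R O O[X])
  let ψφ : LO O →ₐ[R] K := (psi R F K).comp (phi R O F)
  have hψφ : ψφ.comp cL = cO := by
    have h1 : ψφ.comp (g1 R O) = (j.comp (pc R F)).comp (g2 R O F) := by
      change ((psi R F K).comp (phi R O F)).comp (g1 R O) = _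
      rw [AlgHom.comp_assoc, phi_g1, ← AlgHom.comp_assoc, psi_g3]
    apply AlgHom.ext
    intro o
    change (ψφ.comp (g1 R O)) (Polynomial.C o) = j (PowerSeries.C (algebraMap O F o))
    rw [h1, AlgHom.comp_apply, g2_C, AlgHom.comp_apply, pc_apply, Polynomial.coe_C]
  have hφx : phi R O F (xL : LO O) = xM := by
    change phi R O F (g1 R O Polynomial.X) = g3 R F Polynomial.X
    rw [← AlgHom.comp_apply, phi_g1, AlgHom.comp_apply, g2_X]
  have hψx : psi R F K (xM : MF F) = x := by
    change psi R F K (g3 R F Polynomial.X) = j PowerSeries.X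
    rw [← AlgHom.comp_apply, psi_g3, AlgHom.comp_apply, pc_apply, Polynomial.coe_X]
  -- the sections over `F((x))`
  have tj : Tr (aY := lineAction R) j 1 (lp (PowerSeries.X : F⟦X⟧)) (lp (x : K)) := tr_line (by
    rw [Units.val_one, _root_.one_mul]; rfl)
  have tρ : Tr (aY := lineAction R) cO x (lp (1 : O)) (lp (x : K)) := tr_line (by
    rw [map_one, _root_.mul_one])
  let sK : RSec kR (stable_line ϖ) Φ (lp (x : K)) hx := rs tj s
  let ρK : RSec kR (stable_line ϖ) Φ (lp (x : K)) hx := rs tρ ρ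
  obtain ⟨g, hg⟩ := exists_ga ε ρK sK
  -- rotation
  have hrot : ∀ τ : F, ∃ r : K →ₐ[R] K, τ ≠ 0 → r.comp j = j.comp (ThRot.rs R τ) := by
    intro τ
    by_cases hτ : τ = 0
    · exact ⟨AlgHom.id R K, fun h => absurd hτ h⟩
    · obtain ⟨r, hr⟩ := exists_rot R F K τ hτ
      exact ⟨r, fun _ => hr⟩
  choose rot hrot using hrot
  have hgτ : ∀ τ : F, τ ≠ 0 → ∃ γ : WithConv (A →ₐ[k] F⟦X⟧),
      g = mapPt (jj k F K) γ * mapPt ((rot τ).restrictScalars k) g := by
    intro τ hτ
    let w : (F⟦X⟧)ˣ := Units.map (cc (k := R) (F := F) : F →* F⟦X⟧) (Units.mk0 τ hτ)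
    have hw : ThRot.rs R τ (PowerSeries.X : F⟦X⟧) = (w : F⟦X⟧) * PowerSeries.X := by
      rw [rs_apply, PowerSeries.rescale_X]; rfl
    have tτ : Tr (aY := lineAction R) (ThRot.rs R τ) w⁻¹ (lp (PowerSeries.X : F⟦X⟧))
        (lp (PowerSeries.X : F⟦X⟧)) := tr_line (by
      rw [hw, ← _root_.mul_assoc, Units.inv_mul, _root_.one_mul])
    obtain ⟨γ, hγ⟩ := exists_ga ε (rs tτ s) s
    refine ⟨γ, ?_⟩
    have hrX : rot τ (x : K) = (Units.map (j : F⟦X⟧ →* K) w * x : Kˣ) := by
      change rot τ (j PowerSeries.X) = j w * j PowerSeries.X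
      rw [← AlgHom.comp_apply, hrot τ hτ, AlgHom.comp_apply, hw, map_mul]
    have tr : Tr (aY := lineAction R) (rot τ) (Units.map (j : F⟦X⟧ →* K) w)⁻¹ (lp (x : K)) (lp (x : K)) :=
      tr_line (by rw [hrX, Units.val_mul, ← _root_.mul_assoc, Units.inv_mul, _root_.one_mul])
    have e1 : rs (hy' := hx) tj (rs (hy' := hs) tτ s) = rs tr sK := by
      rw [rs_rs, rs_rs]
      refine rs_congr _ _ (hrot τ hτ).symm ?_ _
      rw [map_one, _root_.mul_one, map_inv, _root_.one_mul]
    have e2 : rs (hy' := hx) tr ρK = ρK := by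
      change rs tr (rs tρ ρ) = rs tρ ρ
      rw [rs_rs]
      refine rs_congr _ _ ?_ ?_ _
      · apply AlgHom.ext
        intro o
        change rot τ (j (PowerSeries.C (algebraMap O F o))) = j (PowerSeries.C (algebraMap O F o))
        rw [← AlgHom.comp_apply, hrot τ hτ, AlgHom.comp_apply]
        congr 1
        rw [rs_apply]
        ext n
        rw [PowerSeries.coeff_rescale, PowerSeries.coeff_C]
        split_ifs with h
        · subst h; simp
        · simp
      · have : Units.map (rot τ : K →* K) x = Units.map (j : F⟦X⟧ →* K) w * x := Units.ext hrX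
        rw [this, inv_mul_cancel_left]
    have e3 : sK = ga ε (mapPt (jj k F K) γ * mapPt ((rot τ).restrictScalars k) g) ρK := by
      have h1 := congrArg (rs (hy' := hx) tj) hγ
      rw [rs_ga, e1, hg, rs_ga, e2] at h1
      rw [ga_mul]
      exact h1
    exact ga_injective ε ρK (hg.symm.trans e3)
  obtain ⟨lam, h0, c, hh0, hch⟩ := key (jj k F K) x (jj_injective k F K) (jj_X k F K)
    (fun τ => (rot τ).restrictScalars k) (fun τ f hτ => AlgHom.congr_fun (hrot τ hτ) f)
    (algebraMap O F).range g hgτ (hCI g)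
  obtain ⟨h, rfl⟩ := exists_int hinj h0 hh0
  -- the section over `O[x, x⁻¹]`
  have tL : Tr (aY := lineAction R) cL xL (lp (1 : O)) (lp (xL : LO O)) := tr_line (by
    rw [map_one, _root_.mul_one])
  let σ₁ : RSec kR (stable_line ϖ) Φ (lp (xL : LO O)) hxL :=
    ga ε (lamU lam xL * mapPt (cL.restrictScalars k) h) (rs tL ρ)
  let s₁ : RSec kR (stable_line ϖ) Φ (lp (PowerSeries.X : F⟦X⟧)) hs := ga ε c s
  have tφ : Tr (aY := lineAction R) (phi R O F) 1 (lp (xL : LO O)) (lp (xM : MF F)) := tr_line (by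
    rw [Units.val_one, _root_.one_mul, hφx])
  have tψ : Tr (aY := lineAction R) (psi R F K) 1 (lp (xM : MF F)) (lp (x : K)) := tr_line (by
    rw [Units.val_one, _root_.one_mul, hψx])
  have hux : Units.map (ψφ : LO O →* K) xL = x := Units.ext (by
    change psi R F K (phi R O F (xL : LO O)) = x
    rw [hφx, hψx])
  have e4 : rs (hy' := hx) tψ (rs (hy' := hxM) tφ σ₁) = rs tj s₁ := by
    rw [rs_rs, rs_ga, rs_ga, rs_rs]
    have e5 : rs (hy' := hx) (tL.comp (tφ.comp tψ)) ρ = ρK := by
      refine rs_congr _ _ hψφ ?_ _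
      rw [map_one, _root_.mul_one, _root_.one_mul]
      exact hux
    have e6 : mapPt (((psi R F K).comp (phi R O F)).restrictScalars k) (lamU lam xL *
        mapPt (cL.restrictScalars k) h) = mapPt (jj k F K) c * g := by
      rw [hch, map_mul, mapPt_lamU]
      have h1 : Units.map ((((psi R F K).comp (phi R O F)).restrictScalars k : LO O →ₐ[k] K) : LO O →* K) xL = x :=
        hux
      rw [h1]
      congr 1
      apply WithConv.ofConv_injective
      apply AlgHom.ext
      intro f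
      exact AlgHom.congr_fun hψφ (h.ofConv f)
    rw [e6, ga_mul]
    have e7 : rs (hy' := hx) tj s = ga ε g ρK := hg
    rw [e7]
    exact congrArg (fun t => ga ε (mapPt (jj k F K) c) (ga ε g t)) e5
  -- gluing over `F[x]`
  have t3 : Tr (aY := lineAction R) (g3 R F) 1 (lp (Polynomial.X : F[X])) (lp (xM : MF F)) := tr_line (by
    rw [Units.val_one, _root_.one_mul]; rfl)
  have tpc : Tr (aY := lineAction R) (pc R F) 1 (lp (Polynomial.X : F[X])) (lp (PowerSeries.X : F⟦X⟧)) :=
    tr_line (by rw [Units.val_one, _root_.one_mul, pc_apply, Polynomial.coe_X])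
  obtain ⟨σ₂, hσ₂, -⟩ := exists_fib kR (stable_line ϖ) (Φ := Φ) (fib R F K) (hy := hFX) t3 (hy₁ := hxM) tpc
    (hy₂ := hs) tψ (hy₃ := hx) tj (rs (hy' := hxM) tφ σ₁) s₁ e4
  -- gluing over `D(x) ∪ D(ϖ)`
  have t1 : Tr (aY := lineAction R) (g1 R O) 1 (lp (Polynomial.X : O[X])) (lp (xL : LO O)) := tr_line (by
    rw [Units.val_one, _root_.one_mul]; rfl)
  have t2 : Tr (aY := lineAction R) (g2 R O F) 1 (lp (Polynomial.X : O[X])) (lp (Polynomial.X : F[X])) :=
    tr_line (by rw [Units.val_one, _root_.one_mul, g2_X])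
  exact exists_vsec kR (stable_line ϖ) (Φ := Φ) (lp (Polynomial.X : O[X]))
    (a := Polynomial.X) (b := Polynomial.C (algebraMap R O ϖ))
    (fun y => mem_line ϖ (Polynomial.X : O[X]) y) (phi_g1 R O F) (loc_g1 R O) (loc_g2 R O F _)
    (loc_phi R O F _) (hy₁ := hxL) t1 (hy₂ := hFX) t2 (hy₃ := hxM) tφ t3 σ₁ σ₂ hσ₂.symm

end K686.ThCore
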