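import Groth.Agent.Books.DynLim
import Mathlib.RingTheory.PowerSeries.Basic
import Mathlib.RingTheory.PowerSeries.Order
import Mathlib.Algebra.Polynomial.Roots
import Mathlib.Tactic.Group

/-!
# Rotation-invariant cosets in the loop group

`F` an infinite field over `k`, `j : F⟦X⟧ → K` injective with `X` a unit `x` of `K`.  `rotation`: if
`λ(x) a(x) a(τ x)⁻¹ λ(x)⁻¹` is integral for all `τ ∈ Fˣ` then so is `λ(x) a(x) a(0)⁻¹ λ(x)⁻¹`.  `key`: a
point `g` of `K` which is an integral multiple of its rotations and has Cartan and Iwasawa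
decompositions satisfies `c g = λ(x) h` with `c`, `h` integral.
-/

set_option autoImplicit false

universe u

open PowerSeries WithConv
open Groth.Agent.Books.DynBasic Groth.Agent.Books.DynLim
open scoped LaurentPolynomial

namespace K686.ThRot

section Poly

variable {F : Type u} [Field F] [Infinite F]

theorem dvd_of_forall {q : (Polynomial F)⟦X⟧} {N : ℕ}
    (h : ∀ τ : F, τ ≠ 0 → X ^ N ∣ PowerSeries.map (Polynomial.evalRingHom τ) q) :
    X ^ N ∣ PowerSeries.map (Polynomial.evalRingHom (0 : F)) q := by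
  rw [X_pow_dvd_iff]
  intro m hm
  have h1 : PowerSeries.coeff m q = 0 := by
    apply Polynomial.eq_zero_of_infinite_isRoot
    refine Set.Infinite.mono ?_ (Set.finite_singleton (0 : F)).infinite_compl
    intro τ hτ
    have h2 := (X_pow_dvd_iff.1 (h τ hτ)) m hm
    rw [PowerSeries.coeff_map] at h2
    exact h2
  rw [PowerSeries.coeff_map, h1, map_zero]

end Poly

section Rot

variable (k : Type u) [CommRing k] {F : Type u} [Field F] [Algebra k F]

/-- `f(x) ↦ f(τ x)` -/
noncomputable def rs (τ : F) : F⟦X⟧ →ₐ[k] F⟦X⟧ :=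
  { rescale τ with
    commutes' := fun c => by
      change rescale τ (algebraMap k F⟦X⟧ c) = _
      rw [PowerSeries.algebraMap_apply]
      ext n
      rw [coeff_rescale, coeff_C]
      split_ifs with h
      · subst h; simp
      · simp }

theorem rs_apply (τ : F) (f : F⟦X⟧) : rs k τ f = rescale τ f := rfl

/-- `f(x) ↦ f(t x)` -/
noncomputable def thet : F⟦X⟧ →ₐ[k] (Polynomial F)⟦X⟧ :=
  { (rescale (Polynomial.X : Polynomial F)).comp (PowerSeries.map Polynomial.C) with
    commutes' := fun c => by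
      change rescale (Polynomial.X : Polynomial F) (PowerSeries.map Polynomial.C (algebraMap k F⟦X⟧ c)) = _
      rw [PowerSeries.algebraMap_apply, PowerSeries.algebraMap_apply]
      ext1 n
      rw [coeff_rescale, coeff_map, coeff_C, coeff_C]
      split_ifs with h
      · subst h; simp
      · simp }

/-- constants in `t` -/
noncomputable def cst' : F⟦X⟧ →ₐ[k] (Polynomial F)⟦X⟧ :=
  { PowerSeries.map Polynomial.C with
    commutes' := fun c => by
      change PowerSeries.map Polynomial.C (algebraMap k F⟦X⟧ c) = _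
      rw [PowerSeries.algebraMap_apply, PowerSeries.algebraMap_apply]
      ext1 n
      rw [coeff_map, coeff_C, coeff_C]
      split_ifs with h
      · rfl
      · simp }

/-- evaluation at `t = τ` -/
noncomputable def evt (τ : F) : (Polynomial F)⟦X⟧ →ₐ[k] F⟦X⟧ :=
  { PowerSeries.map (Polynomial.evalRingHom τ) with
    commutes' := fun c => by
      change PowerSeries.map (Polynomial.evalRingHom τ) (algebraMap k (Polynomial F)⟦X⟧ c) = _
      rw [PowerSeries.algebraMap_apply, PowerSeries.algebraMap_apply]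
      ext1 n
      rw [coeff_map, coeff_C, coeff_C]
      split_ifs with h
      · change Polynomial.eval τ (algebraMap k (Polynomial F) c) = _
        rw [Polynomial.algebraMap_apply, Polynomial.eval_C]
      · simp }

theorem evt_apply (τ : F) (f : (Polynomial F)⟦X⟧) :
    evt k τ f = PowerSeries.map (Polynomial.evalRingHom τ) f := rfl

theorem evt_thet (τ : F) : (evt k τ).comp (thet k) = rs k τ := by
  apply AlgHom.ext
  intro f
  ext n
  change coeff n (PowerSeries.map (Polynomial.evalRingHom τ)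
    (rescale (Polynomial.X : Polynomial F) (PowerSeries.map Polynomial.C f))) = coeff n (rescale τ f)
  rw [coeff_map, coeff_rescale, coeff_map, coeff_rescale, map_mul, map_pow]
  change (Polynomial.eval τ Polynomial.X) ^ n * Polynomial.eval τ (Polynomial.C _) = _
  rw [Polynomial.eval_X, Polynomial.eval_C]

theorem evt_cst (τ : F) : (evt k τ).comp (cst' k) = AlgHom.id k _ := by
  apply AlgHom.ext
  intro f
  ext n
  change coeff n (PowerSeries.map (Polynomial.evalRingHom τ) (PowerSeries.map Polynomial.C f)) = coeff n f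
  rw [coeff_map, coeff_map]
  simp

end Rot

section Main

variable {k : Type u} [CommRing k] {A : Type u} [CommRing A] [HopfAlgebra k A]
  {F : Type u} [Field F] [Algebra k F] {K : Type u} [CommRing K] [Algebra k K]
  (j : F⟦X⟧ →ₐ[k] K)

theorem mem_range_iff (hj : Function.Injective j) (g : WithConv (A →ₐ[k] K)) :
    g ∈ (mapPt (A := A) j).range ↔ ∀ f, g.ofConv f ∈ Set.range j := by
  constructor
  · rintro ⟨h, rfl⟩ f
    exact ⟨h.ofConv f, rfl⟩
  · intro h
    choose c hc using h
    let φ : A →ₐ[k] F⟦X⟧ :=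
      { toFun := c
        map_one' := hj (by rw [hc, map_one, map_one])
        map_mul' := fun a b => hj (by rw [hc, map_mul, map_mul, hc, hc])
        map_zero' := hj (by rw [hc, map_zero, map_zero])
        map_add' := fun a b => hj (by rw [hc, map_add, map_add, hc, hc])
        commutes' := fun r => hj (by rw [hc, AlgHom.commutes, AlgHom.commutes]) }
    refine ⟨toConv φ, ?_⟩
    apply WithConv.ofConv_injective
    apply AlgHom.ext
    intro f
    exact hc f

variable (x : Kˣ)

/-- The twisted polynomial attached to a function. -/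
theorem exists_q (hx : j X = x) (lam : A →ₐc[k] k[T;T⁻¹]) (u : WithConv (A →ₐ[k] (Polynomial F)⟦X⟧))
    (f : A) : ∃ (N : ℕ) (q : (Polynomial F)⟦X⟧), ∀ τ : F,
      j (evt k τ q) = (x : K) ^ N * (orb lam x (mapPt j (mapPt (evt k τ) u))).ofConv f := by
  classical
  obtain ⟨N, hN⟩ : ∃ N : ℕ, ∀ n ∈ (rho lam f).coeff.support, 0 ≤ n + N := by
    refine ⟨∑ n ∈ (rho lam f).coeff.support, n.natAbs, fun n hn => ?_⟩
    have h1 : n.natAbs ≤ ∑ n ∈ (rho lam f).coeff.support, n.natAbs :=
      Finset.single_le_sum (f := fun n : ℤ => n.natAbs) (fun _ _ => Nat.zero_le _) hn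
    omega
  refine ⟨N, ∑ n ∈ (rho lam f).coeff.support, u.ofConv ((rho lam f).coeff n) * X ^ (n + N).toNat,
    fun τ => ?_⟩
  rw [orb_apply_apply, Finsupp.sum, Finset.mul_sum, map_sum, map_sum]
  refine Finset.sum_congr rfl fun n hn => ?_
  have h1 : evt k τ (X : (Polynomial F)⟦X⟧) = X := by
    rw [evt_apply]; simp
  rw [map_mul, map_pow, h1, map_mul, map_pow, hx]
  have h2 : (x : K) ^ (n + N).toNat = (x : K) ^ N * ((x ^ n : Kˣ) : K) := by
    rw [← Units.val_pow_eq_pow_val, ← Units.val_pow_eq_pow_val, ← Units.val_mul]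
    congr 1
    rw [← zpow_natCast, ← zpow_natCast, ← zpow_add, Int.toNat_of_nonneg (hN n hn), add_comm]
  rw [h2, mapPt_apply, mapPt_apply]
  ring


/-- Integrality in terms of divisibility. -/
theorem mem_range_iff_dvd (hj : Function.Injective j) (hx : j X = x) {z : K} {N : ℕ} {q : F⟦X⟧}
    (h : j q = (x : K) ^ N * z) : z ∈ Set.range j ↔ X ^ N ∣ q := by
  constructor
  · rintro ⟨p, rfl⟩
    refine ⟨p, hj ?_⟩
    rw [h, map_mul, map_pow, hx]
  · rintro ⟨p, rfl⟩
    refine ⟨p, ?_⟩
    rw [map_mul, map_pow, hx] at h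
    exact (x.isUnit.pow N).mul_left_cancel h

/-- **Rotation.** -/
theorem rotation [Infinite F] (hj : Function.Injective j) (hx : j X = x) (lam : A →ₐc[k] k[T;T⁻¹])
    (a : WithConv (A →ₐ[k] F⟦X⟧))
    (H : ∀ τ : F, τ ≠ 0 → orb lam x (mapPt j (a * (mapPt (rs k τ) a)⁻¹)) ∈ (mapPt (A := A) j).range) :
    orb lam x (mapPt j (a * (mapPt (rs k 0) a)⁻¹)) ∈ (mapPt (A := A) j).range := by
  let u : WithConv (A →ₐ[k] (Polynomial F)⟦X⟧) := mapPt (cst' k) a * (mapPt (thet k) a)⁻¹
  have hu : ∀ τ : F, mapPt (evt k τ) u = a * (mapPt (rs k τ) a)⁻¹ := by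
    intro τ
    have h1 : mapPt (evt k τ) (mapPt (cst' k) a) = a := by
      apply WithConv.ofConv_injective
      change (evt k τ).comp ((cst' k).comp a.ofConv) = a.ofConv
      rw [← AlgHom.comp_assoc, evt_cst]; rfl
    have h2 : mapPt (evt k τ) (mapPt (thet k) a) = mapPt (rs k τ) a := by
      apply WithConv.ofConv_injective
      change (evt k τ).comp ((thet k).comp a.ofConv) = (rs k τ).comp a.ofConv
      rw [← AlgHom.comp_assoc, evt_thet]
    rw [map_mul, map_inv, h1, h2]
  rw [mem_range_iff j hj]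
  intro f
  obtain ⟨N, q, hq⟩ := exists_q j x hx lam u f
  have h0 := hq 0
  rw [hu] at h0
  rw [mem_range_iff_dvd j x hj hx h0]
  apply dvd_of_forall
  intro τ hτ
  have h1 := hq τ
  rw [hu] at h1
  exact (mem_range_iff_dvd j x hj hx h1).1 ((mem_range_iff j hj _).1 (H τ hτ) f)

/-- constants -/
noncomputable def cc : F →ₐ[k] F⟦X⟧ :=
  { PowerSeries.C with
    commutes' := fun c => by
      change PowerSeries.C (algebraMap k F c) = _
      rw [PowerSeries.algebraMap_apply] }

theorem cc_apply (c : F) : cc (k := k) c = PowerSeries.C c := rfl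

/-- the value at `0` -/
noncomputable def ev0' : F⟦X⟧ →ₐ[k] F :=
  { PowerSeries.constantCoeff with
    commutes' := fun c => by
      change PowerSeries.constantCoeff (algebraMap k F⟦X⟧ c) = _
      rw [PowerSeries.algebraMap_apply, PowerSeries.constantCoeff_C] }

theorem rs_zero : rs k (0 : F) = (cc (k := k)).comp (ev0' (k := k) (F := F)) := by
  apply AlgHom.ext
  intro f
  change rescale 0 f = PowerSeries.C (PowerSeries.constantCoeff f)
  rw [rescale_zero_apply]

/-- Conjugates of points with limit are integral. -/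
theorem orb_mem_range (hj : Function.Injective j) (hx : j X = x) (lam : A →ₐc[k] k[T;T⁻¹])
    {p : WithConv (A →ₐ[k] F)} (hp : p ∈ PSub lam F) :
    orb lam x (mapPt j (mapPt cc p)) ∈ (mapPt (A := A) j).range := by
  classical
  rw [mem_PSub, limExists_iff] at hp
  rw [mem_range_iff j hj]
  intro f
  rw [orb_apply_apply, Finsupp.sum]
  refine ⟨∑ n ∈ (rho lam f).coeff.support, cc (k := k) (p.ofConv ((rho lam f).coeff n)) * X ^ n.toNat, ?_⟩
  rw [map_sum]
  refine Finset.sum_congr rfl fun n hn => ?_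
  rw [map_mul, map_pow, hx, mapPt_apply, mapPt_apply]
  rcases lt_or_ge n 0 with h | h
  · have := hp n h f
    rw [pr_def] at this
    change p.ofConv ((rho lam f).coeff n) = 0 at this
    rw [this, map_zero, map_zero, zero_mul, zero_mul]
  · congr 1
    rw [← Units.val_pow_eq_pow_val]
    congr 1
    rw [← zpow_natCast, Int.toNat_of_nonneg h]

/-- **Key theorem.** -/
theorem key [Infinite F] (hj : Function.Injective j) (hx : j X = x) (rot : F → K →ₐ[k] K)
    (hrot : ∀ (τ : F) (f : F⟦X⟧), τ ≠ 0 → rot τ (j f) = j (rs k τ f)) (I : Subring F)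
    (g : WithConv (A →ₐ[k] K))
    (hg : ∀ τ : F, τ ≠ 0 → ∃ γ : WithConv (A →ₐ[k] F⟦X⟧), g = mapPt j γ * mapPt (rot τ) g)
    (hCI : ∃ (b a : WithConv (A →ₐ[k] F⟦X⟧)) (lam : A →ₐc[k] k[T;T⁻¹]),
      g = mapPt j b * lamU lam x * mapPt j a ∧
        ∀ a₀ : WithConv (A →ₐ[k] F), ∃ p ∈ PSub lam F, ∃ h : WithConv (A →ₐ[k] F),
          (∀ f, h.ofConv f ∈ I) ∧ a₀ = p * h) :
    ∃ (lam : A →ₐc[k] k[T;T⁻¹]) (h : WithConv (A →ₐ[k] F)) (c : WithConv (A →ₐ[k] F⟦X⟧)),
      (∀ f, h.ofConv f ∈ I) ∧ mapPt j c * g = lamU lam x * mapPt j (mapPt cc h) := by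
  obtain ⟨b, a, lam, hba, hI⟩ := hCI
  have h1 : ∀ τ : F, τ ≠ 0 → orb lam x (mapPt j (a * (mapPt (rs k τ) a)⁻¹)) ∈ (mapPt (A := A) j).range := by
    intro τ hτ
    obtain ⟨γ, hγ⟩ := hg τ hτ
    have hjr : ∀ d : WithConv (A →ₐ[k] F⟦X⟧), mapPt (rot τ) (mapPt j d) = mapPt j (mapPt (rs k τ) d) := by
      intro d
      apply WithConv.ofConv_injective
      apply AlgHom.ext
      intro f
      exact hrot τ _ hτ
    -- the unit `τ`
    let w : (F⟦X⟧)ˣ := Units.map (cc (k := k) (F := F) : F →* F⟦X⟧) (Units.mk0 τ hτ)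
    have hw : Units.map (rot τ : K →* K) x = Units.map (j : F⟦X⟧ →* K) w * x := by
      ext1
      change rot τ x = j (cc (k := k) τ) * x
      rw [← hx, hrot τ _ hτ, ← map_mul]
      congr 1
      rw [rs_apply, rescale_X, cc_apply]
    have h2 : mapPt (rot τ) g = mapPt j (mapPt (rs k τ) b * lamU lam w) * lamU lam x *
        mapPt j (mapPt (rs k τ) a) := by
      rw [hba, map_mul, map_mul, hjr, hjr, mapPt_lamU, hw, map_mul (lamU lam), ← mapPt_lamU,
        map_mul (mapPt j)]
      simp only [mul_assoc]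
    rw [h2, hba] at hγ
    refine ⟨b⁻¹ * γ * (mapPt (rs k τ) b * lamU lam w), ?_⟩
    have h3 := eq_mul_inv_of_mul_eq hγ.symm
    rw [orb_apply, map_mul (mapPt j) a, map_inv (mapPt j), map_mul (mapPt j), map_mul (mapPt j),
      map_inv (mapPt j), h3]
    group
  obtain ⟨e, he⟩ := rotation j x hj hx lam a h1
  obtain ⟨p, hp, h, hh, hph⟩ := hI (mapPt ev0' a)
  obtain ⟨p', hp'⟩ := orb_mem_range j x hj hx lam hp
  refine ⟨lam, h, p'⁻¹ * e⁻¹ * b⁻¹, hh, ?_⟩
  have h0 : mapPt (rs k 0) a = mapPt cc p * mapPt cc h := by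
    rw [← map_mul, ← hph, rs_zero]; rfl
  rw [h0] at he
  rw [hba, map_mul, map_mul, map_inv, map_inv, map_inv, he, hp']
  rw [orb_apply, orb_apply, map_mul, map_inv, map_mul]
  group

end Main

end K686.ThRot
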